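import Cfsg.Agent.H16.CertArr
import Cfsg.Agent.H14.ModTwoFacts
import Cfsg.Agent.H56.Co1Aut.Data
import Cfsg.Prelude.Def_Spor_Conway

/-!
The action of the first Conway group on the Leech lattice modulo two in a basis, with vectors
encoded as natural numbers and elements as lists of images of the basis vectors.
-/

set_option autoImplicit false
set_option maxRecDepth 100000

namespace Cfsg.Agent.H56.Co1Aut

open Cfsg Cfsg.Agent.H14 Cfsg.Agent.H16 Finset

/-- The vector of bits of a natural number. -/
def vecB (k : ℕ) : Fin 24 → ZMod 2 := fun i => if k.testBit i.val then 1 else 0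

theorem vecB_xor (a b : ℕ) : vecB (a ^^^ b) = vecB a + vecB b := by
  funext i
  simp only [vecB, Nat.testBit_xor, Pi.add_apply]
  cases a.testBit i.val <;> cases b.testBit i.val <;> decide

theorem vecB_zero : vecB 0 = 0 := by funext i; simp [vecB]

theorem vecB_pow (j : Fin 24) : vecB (2 ^ j.val) = Pi.single j 1 := by
  funext i
  simp only [vecB, Nat.testBit_two_pow, Pi.single_apply, Fin.val_inj, decide_eq_true_eq,
    eq_comm (a := j)]

theorem mod_eq_of_vecB {a b : ℕ} (h : vecB a = vecB b) : a % 2 ^ 24 = b % 2 ^ 24 := by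
  refine Nat.eq_of_testBit_eq fun i => ?_
  rw [Nat.testBit_mod_two_pow, Nat.testBit_mod_two_pow]
  by_cases hi : i < 24
  · have := congrFun h ⟨i, hi⟩
    simp only [vecB] at this
    cases ha : a.testBit i <;> cases hb : b.testBit i <;> simp_all
  · simp [hi]

theorem exists_vecB : ∀ u : Fin 24 → ZMod 2, ∃ k, k < 2 ^ 24 ∧ vecB k = u := by
  intro u
  have key : ∀ n, n ≤ 24 → ∃ k, k < 2 ^ n ∧
      ∀ i : Fin 24, vecB k i = if i.val < n then u i else 0 := by
    intro n
    induction n with
    | zero => exact fun _ => ⟨0, by norm_num, fun i => by simp [vecB]⟩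
    | succ n ih =>
      intro hn
      obtain ⟨k, hk, hki⟩ := ih (by omega)
      by_cases h : u ⟨n, hn⟩ = 0
      · refine ⟨k, lt_trans hk (by rw [pow_succ]; omega), fun i => ?_⟩
        rw [hki]
        by_cases e : i.val = n
        · rw [if_neg (by omega), if_pos (by omega)]
          rw [← h]; exact congrArg u (Fin.ext e.symm)
        · by_cases e' : i.val < n
          · rw [if_pos e', if_pos (by omega)]
          · rw [if_neg e', if_neg (by omega)]
      · refine ⟨k ^^^ 2 ^ n, ?_, fun i => ?_⟩
        · exact Nat.xor_lt_two_pow (lt_trans hk (by rw [pow_succ]; omega))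
            (Nat.pow_lt_pow_right (by norm_num) (by omega))
        · have hp : vecB (2 ^ n) = Pi.single ⟨n, hn⟩ 1 := vecB_pow ⟨n, hn⟩
          rw [vecB_xor, Pi.add_apply, hki, hp]
          by_cases e : i.val = n
          · rw [if_neg (by omega), if_pos (by omega), show i = ⟨n, hn⟩ from Fin.ext e,
              Pi.single_eq_same, zero_add]
            rcases (by decide : ∀ z : ZMod 2, z = 0 ∨ z = 1) (u ⟨n, hn⟩) with z | z
            · exact absurd z h
            · exact z.symm
          · rw [Pi.single_eq_of_ne (fun c => e (congrArg Fin.val c)), add_zero]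
            by_cases e' : i.val < n
            · rw [if_pos e', if_pos (by omega)]
            · rw [if_neg e', if_neg (by omega)]
  obtain ⟨k, hk, hki⟩ := key 24 le_rfl
  exact ⟨k, hk, funext fun i => by rw [hki, if_pos i.2]⟩

/-- The images of the bits are added up. -/
noncomputable def apGo : List ℕ → ℕ → ℕ → ℕ
  | [], _, acc => acc
  | a :: as, k, acc =>
    forceNat (if k % 2 = 1 then acc ^^^ a else acc) fun acc' =>
      forceNat (k / 2) fun k' => apGo as k' acc'

/-- The linear map with the given images of the basis vectors. -/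
noncomputable def ap (A : List ℕ) (k : ℕ) : ℕ := apGo A k 0

/-- The map `ap` on bit vectors. -/
noncomputable def lin (A : List ℕ) (u : Fin 24 → ZMod 2) : Fin 24 → ZMod 2 :=
  ∑ j : Fin 24, u j • vecB (A.getD j.val 0)

theorem lin_add (A : List ℕ) (u v : Fin 24 → ZMod 2) : lin A (u + v) = lin A u + lin A v := by
  simp only [lin, Pi.add_apply, add_smul, sum_add_distrib]

theorem vecB_apGo : ∀ (A : List ℕ) (k acc : ℕ), vecB (apGo A k acc) =
    vecB acc + ∑ j ∈ range A.length, if k.testBit j then vecB (A.getD j 0) else 0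
  | [], k, acc => by simp [apGo]
  | a :: as, k, acc => by
    rw [apGo, forceNat_eq, forceNat_eq, vecB_apGo as, List.length_cons, sum_range_succ']
    simp only [List.getD_cons_succ, List.getD_cons_zero, ← Nat.testBit_succ]
    rw [Nat.testBit_zero]
    by_cases h : k % 2 = 1
    · simp only [h, if_true, decide_true, vecB_xor]; abel
    · simp only [h, if_false, decide_false, Bool.false_eq_true, add_zero]

theorem vecB_ap {A : List ℕ} (hA : A.length = 24) (k : ℕ) :
    vecB (ap A k) = lin A (vecB k) := by
  rw [ap, vecB_apGo, vecB_zero, zero_add, hA, lin, ← Fin.sum_univ_eq_sum_range]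
  refine sum_congr rfl fun j _ => ?_
  simp only [vecB]
  cases k.testBit j.val <;> simp <;> rfl

theorem lin_single (A : List ℕ) (j : Fin 24) : lin A (Pi.single j 1) = vecB (A.getD j.val 0) := by
  rw [lin, Fintype.sum_eq_single j fun i hi => by rw [Pi.single_eq_of_ne hi, zero_smul],
    Pi.single_eq_same, one_smul]

theorem eq_sum_single (u : Fin 24 → ZMod 2) : u = ∑ j : Fin 24, u j • Pi.single j 1 := by
  funext i
  rw [Finset.sum_apply, Fintype.sum_eq_single i fun j hj => by
    rw [Pi.smul_apply, Pi.single_eq_of_ne hj.symm, smul_zero]]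
  simp

/-! ### The basis -/

/-- A basis vector. -/
def bV (i : Fin 24) : V := H15.toVec (basisRows.getD i.val [])

/-- A vector of the dual basis. -/
def cV (i : Fin 24) : V := H15.toVec (dualRows.getD i.val [])

/-- The linear combination with the given coefficients. -/
def comb : (Fin 24 → ℤ) →+ V where
  toFun c := fun p => ∑ i, c i * bV i p
  map_zero' := by funext p; simp
  map_add' c d := by funext p; simp [add_mul, sum_add_distrib]

/-- The coordinates in the basis. -/
def cd (v : V) : Fin 24 → ℤ := fun i => dotInt (cV i) v / 8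

/-- The coordinates modulo two. -/
def red (v : V) : Fin 24 → ZMod 2 := fun i => (cd v i : ZMod 2)

theorem dotInt_toVec {a b : List ℤ} (ha : a.length = 24) (hb : b.length = 24) :
    dotInt (H15.toVec a) (H15.toVec b) = H15.listDot a b := by
  rw [H15.listDot_eq (ha.trans hb.symm), ha]
  exact H15.sum24 fun i => a.getD i 0 * b.getD i 0

theorem lists_ok : ((basisRows.all fun r => r.length == 24) && basisRows.length == 24 &&
    (dualRows.all fun r => r.length == 24) && dualRows.length == 24) = true := by decide +kernel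

theorem basis_length (i : Fin 24) : (basisRows.getD i.val []).length = 24 ∧
    (dualRows.getD i.val []).length = 24 := by
  have h := lists_ok
  simp only [Bool.and_eq_true, List.all_eq_true, beq_iff_eq] at h
  exact ⟨h.1.1.1 _ (H15.getD_mem (by rw [h.1.1.2]; exact i.2)),
    h.1.2 _ (H15.getD_mem (by rw [h.2]; exact i.2))⟩

theorem dual_ok : ∀ i k : Fin 24, H15.listDot (dualRows.getD i.val []) (basisRows.getD k.val []) =
    if i = k then 8 else 0 := by decide +kernel

theorem cd_comb (c : Fin 24 → ℤ) : cd (comb c) = c := by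
  funext i
  have h : dotInt (cV i) (comb c) = 8 * c i := by
    have e : dotInt (cV i) (comb c) = ∑ k, c k * dotInt (cV i) (bV k) := by
      simp only [dotInt, comb, AddMonoidHom.coe_mk, ZeroHom.coe_mk, mul_sum]
      rw [sum_comm]
      exact sum_congr rfl fun k _ => sum_congr rfl fun p _ => by ring
    rw [e, Fintype.sum_eq_single i fun k hk => by
      rw [cV, bV, dotInt_toVec (basis_length i).2 (basis_length k).1, dual_ok,
        if_neg (Ne.symm hk), mul_zero]]
    rw [cV, bV, dotInt_toVec (basis_length i).2 (basis_length i).1, dual_ok, if_pos rfl, mul_comm]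
  rw [cd, h]; simp

/-- A vector is the combination of the basis with its own coordinates. -/
noncomputable def spanOk (l : List ℤ) : Bool :=
  H15.allBelow (fun p => (List.range 24).foldl
    (fun acc i => acc + H15.listDot (dualRows.getD i []) l / 8 * (basisRows.getD i []).getD p 0) 0
      == l.getD p 0) 24

theorem spans_ok : H15.latGens.all (fun l => l.length == 24 && spanOk l) = true := by
  decide +kernel

theorem foldl_range (f : ℕ → ℤ) : ∀ n : ℕ,
    (List.range n).foldl (fun acc i => acc + f i) 0 = ∑ i ∈ range n, f i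
  | 0 => by simp
  | n + 1 => by rw [List.range_succ, List.foldl_append, foldl_range f n, sum_range_succ]; rfl

theorem exists_comb {v : V} (hv : IsLeech v) : ∃ c, comb c = v := by
  refine H15.leech_le_of_gens (S := comb.range) (fun l hl => ?_) hv
  have h := List.all_eq_true.1 spans_ok l hl
  rw [Bool.and_eq_true, beq_iff_eq] at h
  refine ⟨fun i => H15.listDot (dualRows.getD i.val []) l / 8, funext fun p => ?_⟩
  have hp := H15.allBelow_eq_true h.2 _ (H15.idx_lt p)
  rw [beq_iff_eq, foldl_range] at hp
  rw [H15.toVec, ← hp, ← Fin.sum_univ_eq_sum_range]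
  rfl

theorem comb_cd {v : V} (hv : IsLeech v) : comb (cd v) = v := by
  obtain ⟨c, rfl⟩ := exists_comb hv
  rw [cd_comb]

theorem basis_leech : ∀ i : Fin 24, H15.leechOk (basisRows.getD i.val []) = true := by
  decide +kernel

theorem isLeech_bV (i : Fin 24) : IsLeech (bV i) := H15.leechOk_spec (basis_leech i)

theorem cd_add {x y : V} (hx : IsLeech x) (hy : IsLeech y) : cd (x + y) = cd x + cd y := by
  obtain ⟨c, rfl⟩ := exists_comb hx
  obtain ⟨d, rfl⟩ := exists_comb hy
  rw [← map_add, cd_comb, cd_comb, cd_comb]

theorem red_add {x y : V} (hx : IsLeech x) (hy : IsLeech y) : red (x + y) = red x + red y := by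
  funext i; simp [red, cd_add hx hy]

theorem red_zero : red (0 : V) = 0 := by
  funext i; simp [red, cd, dotInt]

theorem red_neg {x : V} (hx : IsLeech x) : red (-x) = red x := by
  have h := red_add hx hx.neg
  rw [add_neg_cancel, red_zero] at h
  funext i
  have := congrFun h i
  simp only [Pi.zero_apply, Pi.add_apply] at this
  rw [← neg_eq_of_add_eq_zero_right this.symm, ZMod.neg_eq_self_mod_two]

theorem red_bV (i : Fin 24) : red (bV i) = Pi.single i 1 := by
  have h : bV i = comb (Pi.single i 1) := by
    funext p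
    simp only [comb, AddMonoidHom.coe_mk, ZeroHom.coe_mk]
    rw [Fintype.sum_eq_single i fun k hk => by rw [Pi.single_eq_of_ne hk, zero_mul],
      Pi.single_eq_same, one_mul]
  funext k
  rw [red, h, cd_comb]
  by_cases e : k = i
  · subst e; simp
  · simp [Pi.single_eq_of_ne e]

/-- Vectors with equal coordinates modulo two are congruent. -/
theorem congr_of_red {x y : V} (hx : IsLeech x) (hy : IsLeech y) (h : red x = red y) :
    ∃ z, IsLeech z ∧ x - y = 2 • z := by
  have hd : ∀ i, (2 : ℤ) ∣ cd x i - cd y i := fun i => by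
    have := congrFun h i
    simp only [red, ZMod.intCast_eq_intCast_iff_dvd_sub] at this
    have e : cd x i - cd y i = -(cd y i - cd x i) := by ring
    rw [e]; exact dvd_neg.2 (by exact_mod_cast this)
  choose e he using hd
  have hxy : x - y = 2 • comb e := by
    rw [← map_nsmul, ← comb_cd hx, ← comb_cd hy, ← map_sub]
    congr 1
    funext i; simp [he i]
  refine ⟨comb e, ?_, hxy⟩
  refine AddSubgroup.closure_induction (p := fun z _ => IsLeech z) ?_ isLeech_zero
    (fun a b _ _ ha hb => ha.add hb) (fun a _ ha => ha.neg)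
    (show comb e ∈ AddSubgroup.closure (Set.range bV) from ?_)
  · rintro _ ⟨i, rfl⟩; exact isLeech_bV i
  · have hs : comb e = ∑ i, e i • bV i := by funext p; simp [comb, Finset.sum_apply]
    rw [hs]
    exact sum_mem fun i _ => zsmul_mem (AddSubgroup.subset_closure (Set.mem_range_self i)) _

/-- Vectors in the lattice with all coordinates. -/
theorem exists_red (u : Fin 24 → ZMod 2) : ∃ v, IsLeech v ∧ red v = u := by
  let S : Finset (Fin 24) := univ.filter fun i => u i = 1
  have h : ∀ T : Finset (Fin 24), IsLeech (∑ i ∈ T, bV i) ∧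
      red (∑ i ∈ T, bV i) = ∑ i ∈ T, Pi.single i 1 := by
    intro T
    induction T using Finset.induction_on with
    | empty => simpa using ⟨isLeech_zero, red_zero⟩
    | insert a T ha ih =>
      rw [sum_insert ha, sum_insert ha]
      exact ⟨(isLeech_bV a).add ih.1, by rw [red_add (isLeech_bV a) ih.1, red_bV, ih.2]⟩
  refine ⟨_, (h S).1, (h S).2.trans ?_⟩
  conv_rhs => rw [eq_sum_single u]
  rw [sum_filter]
  refine sum_congr rfl fun i _ => ?_
  rcases (by decide : ∀ z : ZMod 2, z = 0 ∨ z = 1) (u i) with z | z <;> simp [z]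

/-! ### Representation -/

/-- The coset of an element modulo the centre. -/
noncomputable def mk : Co0 →* Spor.Co1 := QuotientGroup.mk' (Subgroup.center Co0)

theorem mk_surjective : Function.Surjective mk := QuotientGroup.mk'_surjective _

theorem mk_eq_mk {g h : Co0} : mk g = mk h ↔ h = g ∨ h = negOne * g := by
  show (QuotientGroup.mk g : Co0 ⧸ Subgroup.center Co0) = QuotientGroup.mk h ↔ _
  rw [QuotientGroup.eq, mem_center_iff]
  constructor
  · rintro (e | e)
    · exact Or.inl (inv_mul_eq_one.1 e).symm
    · right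
      rw [← (Subgroup.mem_center_iff.1 negOne_mem_center g), ← e, mul_inv_cancel_left]
  · rintro (rfl | rfl)
    · exact Or.inl (inv_mul_cancel _)
    · right
      rw [← (Subgroup.mem_center_iff.1 negOne_mem_center g), inv_mul_cancel_left]

theorem mk_negOne : mk negOne = 1 := by
  rw [← map_one mk]
  exact (mk_eq_mk.2 (Or.inr (mul_one _).symm)).symm

/-- An element acts as a map of bit vectors. -/
def RepL (g : Co0) (f : ℕ → ℕ) : Prop :=
  ∀ v k, IsLeech v → red v = vecB k → red (act g v) = vecB (f k)

/-- An element of the quotient acts as a map of bit vectors. -/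
def Rep (q : Spor.Co1) (f : ℕ → ℕ) : Prop := ∀ g, mk g = q → RepL g f

theorem RepL.rep {g : Co0} {f : ℕ → ℕ} (h : RepL g f) : Rep (mk g) f := by
  intro g' e v k hv hk
  rcases mk_eq_mk.1 e.symm with rfl | rfl
  · exact h v k hv hk
  · rw [mul_act, act_negOne (isLeech_act g hv), red_neg (isLeech_act g hv)]
    exact h v k hv hk

theorem rep_one : Rep 1 id := by
  rw [← map_one mk]
  exact RepL.rep fun v k _ hk => by rw [one_act]; exact hk

theorem Rep.mul {a b : Spor.Co1} {f f' : ℕ → ℕ} (ha : Rep a f) (hb : Rep b f') :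
    Rep (a * b) (f ∘ f') := by
  obtain ⟨g, rfl⟩ := mk_surjective a
  obtain ⟨h, rfl⟩ := mk_surjective b
  rw [← map_mul]
  refine RepL.rep fun v k hv hk => ?_
  rw [mul_act]
  exact ha g rfl _ _ (isLeech_act h hv) (hb h rfl v k hv hk)

/-- An element is determined by its action modulo two. -/
theorem Rep.eq {a b : Spor.Co1} {f f' : ℕ → ℕ} (ha : Rep a f) (hb : Rep b f')
    (h : ∀ j : Fin 24, f (2 ^ j.val) = f' (2 ^ j.val)) : a = b := by
  obtain ⟨g, rfl⟩ := mk_surjective a
  obtain ⟨g', rfl⟩ := mk_surjective b
  have hbase : ∀ j, red (act g (bV j)) = red (act g' (bV j)) := fun j => by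
    rw [ha g rfl _ (2 ^ j.val) (isLeech_bV j) (by rw [red_bV, vecB_pow]),
      hb g' rfl _ (2 ^ j.val) (isLeech_bV j) (by rw [red_bV, vecB_pow]), h j]
  have hall : ∀ v, IsLeech v → red (act g v) = red (act g' v) := by
    intro v hv
    let S : AddSubgroup V :=
      { carrier := {x | IsLeech x ∧ red (act g x) = red (act g' x)}
        zero_mem' := ⟨isLeech_zero, by
          have e : ∀ k : Co0, act k (0 : V) = 0 := fun k => by
            have := act_add k isLeech_zero isLeech_zero
            rwa [add_zero, left_eq_add] at this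
          rw [e, e]⟩
        add_mem' := fun {x y} hx hy => ⟨hx.1.add hy.1, by
          rw [act_add _ hx.1 hy.1, act_add _ hx.1 hy.1, red_add (isLeech_act _ hx.1) (isLeech_act _ hy.1),
            red_add (isLeech_act _ hx.1) (isLeech_act _ hy.1), hx.2, hy.2]⟩
        neg_mem' := fun {x} hx => ⟨hx.1.neg, by
          rw [act_neg _ hx.1, act_neg _ hx.1, red_neg (isLeech_act _ hx.1),
            red_neg (isLeech_act _ hx.1), hx.2]⟩ }
    have hmem : v ∈ S := by
      rw [← comb_cd hv, show comb (cd v) = ∑ i, cd v i • bV i from by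
        funext p; simp [comb, Finset.sum_apply]]
      exact sum_mem fun i _ => zsmul_mem (show bV i ∈ S from ⟨isLeech_bV i, hbase i⟩) _
    exact hmem.2
  refine (QuotientGroup.eq (s := Subgroup.center Co0)).2 (mem_center_of_congr fun x hx => ?_)
  obtain ⟨z, hz, e⟩ := congr_of_red (isLeech_act g' hx) (isLeech_act g hx) (hall x hx).symm
  refine ⟨act g⁻¹ z, isLeech_act _ hz, ?_⟩
  rw [mul_act, ← act_two_smul g⁻¹ hz, ← e, act_sub _ (isLeech_act g' hx) (isLeech_act g hx),
    inv_act_act]

/-- Two actions of one element agree. -/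
theorem Rep.agree {a : Spor.Co1} {f f' : ℕ → ℕ} (ha : Rep a f) (hb : Rep a f') (k : ℕ) :
    f k % 2 ^ 24 = f' k % 2 ^ 24 := by
  obtain ⟨g, rfl⟩ := mk_surjective a
  obtain ⟨v, hv, hk⟩ := exists_red (vecB k)
  exact mod_eq_of_vecB ((ha g rfl v k hv hk).symm.trans (hb g rfl v k hv hk))

end Cfsg.Agent.H56.Co1Aut
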