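import Cfsg.Agent.H56.Co1Aut.Centralizer

/-!
An automorphism of the first Conway group fixing `W` and mapping `X` to itself or to its inverse
fixes the six chosen elements.
-/

set_option autoImplicit false
set_option maxRecDepth 100000

namespace Cfsg.Agent.H56.Co1Aut

open Cfsg

/-- Substitution of words for the letters. -/
def substW (asg : List (List ℕ)) (r : List ℕ) : List ℕ := r.flatMap fun l => asg.getD l []

/-- Test that a verdict refutes an assignment of words to the letters in `known`. -/
noncomputable def refutes (known : List ℕ) (asg : List (List ℕ)) (v : ℕ × ℕ) : Bool :=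
  Nat.blt v.1 relWords.length &&
  (relWords.getD v.1 []).all (fun l => known.contains l && Nat.blt l 6) &&
  asg.all (fun w => w.all fun l => Nat.blt l 19) &&
  !(Nat.beq (Nat.mod (apWord (substW asg (relWords.getD v.1 [])) (2 ^ v.2)) (2 ^ 24))
    (Nat.mod (2 ^ v.2) (2 ^ 24)))

theorem relations_hold : relWords.all (fun r => r.all (fun l => Nat.blt l 6) && wordEq r []) = true := by
  decide +kernel

theorem evW_substW (φ : Spor.Co1 ≃* Spor.Co1) (asg : List (List ℕ)) : ∀ r : List ℕ,
    (∀ l ∈ r, φ (el l) = evW (asg.getD l [])) → φ (evW r) = evW (substW asg r)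
  | [], _ => by simp [substW, evW]
  | l :: r, h => by
    rw [evW_cons, map_mul, h l (List.mem_cons_self ..),
      evW_substW φ asg r fun m hm => h m (List.mem_cons_of_mem _ hm), ← evW_append]
    rfl

theorem not_refutes {φ : Spor.Co1 ≃* Spor.Co1} {known : List ℕ} {asg : List (List ℕ)}
    (h : ∀ l ∈ known, φ (el l) = evW (asg.getD l [])) (v : ℕ × ℕ) :
    refutes known asg v = false := by
  by_contra hne
  rw [Bool.not_eq_false] at hne
  simp only [refutes, Bool.and_eq_true, List.all_eq_true, List.contains_iff_mem, Nat.blt_eq,
    Bool.not_eq_true'] at hne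
  obtain ⟨⟨⟨hlen, hr⟩, hasg⟩, hbad⟩ := hne
  set r := relWords.getD v.1 [] with hrdef
  have hrel := List.all_eq_true.1 relations_hold r
    (by rw [hrdef, List.getD_eq_getElem _ _ hlen]; exact List.getElem_mem hlen)
  rw [Bool.and_eq_true] at hrel
  have h1 : evW r = 1 := (evW_eq_of_check (fun l hl => lt_trans (hr l hl).2 (by norm_num))
    (fun l hl => absurd hl (List.not_mem_nil)) hrel.2).trans evW_nil
  have h2 := evW_substW φ asg r fun l hl => h l (hr l hl).1
  rw [h1, map_one] at h2
  refine evW_ne_one_of_check (fun l hl => ?_) (k := 2 ^ v.2) (fun e => ?_) h2.symm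
  · rw [substW, List.mem_flatMap] at hl
    obtain ⟨m, -, hl⟩ := hl
    by_cases hm : m < asg.length
    · rw [List.getD_eq_getElem _ _ hm] at hl
      exact hasg _ (List.getElem_mem hm) l hl
    · rw [List.getD_eq_default _ _ (not_lt.1 hm)] at hl
      exact absurd hl (List.not_mem_nil)
  · rw [show Nat.mod (apWord (substW asg r) (2 ^ v.2)) (2 ^ 24) = Nat.mod (2 ^ v.2) (2 ^ 24) from e,
      (Nat.beq_eq ..).mpr rfl] at hbad
    exact Bool.noConfusion hbad

/-- The word for the image of the first letter. -/
def xWord (neg : Bool) : List ℕ := if neg then [6] else [0]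

/-- The assignment after choosing the image of the inversion. -/
def asgG (neg : Bool) (n : ℕ) : List (List ℕ) :=
  [xWord neg, [1], [], 3 :: cosetWords.getD n [], [], []]

/-- The assignment after choosing also the image of the cube twist. -/
def asgD (neg : Bool) (n m : ℕ) : List (List ℕ) :=
  [xWord neg, [1], [], 3 :: cosetWords.getD n [], 4 :: cosetWords.getD m [], []]

/-- The assignment after choosing also the image of the sign change. -/
def asgS (m : ℕ) : List (List ℕ) :=
  [[0], [1], cosetWords.getD m [], 3 :: cosetWords.getD 0 [], 4 :: cosetWords.getD 0 [], []]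

/-- The assignment of all letters. -/
def asgU (m k : ℕ) : List (List ℕ) :=
  [[0], [1], cosetWords.getD m [], 3 :: cosetWords.getD 0 [], 4 :: cosetWords.getD 0 [],
    cosetWords.getD k []]

theorem gamma_check : ∀ neg : Bool, H15.allBelow (fun n => Nat.beq n 0 || Nat.beq n 11 ||
    refutes [0, 1, 3] (asgG neg n) ((gammaRes.getD (if neg then 1 else 0) []).getD n (99, 0))) 66
      = true := by
  decide +kernel

theorem delta_check : ∀ (neg second : Bool), H15.allBelow (fun n =>
    (!neg && !second && Nat.beq n 0) ||
    refutes [0, 1, 3, 4] (asgD neg (if second then 11 else 0) n)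
      ((deltaRes.getD ((if neg then 2 else 0) + (if second then 1 else 0)) []).getD n (99, 0))) 66
      = true := by
  decide +kernel

theorem sign_check : H15.allBelow (fun n => Nat.beq n 0 || Nat.beq n 11 ||
    refutes [0, 1, 3, 4, 2] (asgS n) (signRes.getD n (99, 0))) 66 = true := by
  decide +kernel

theorem u_check : ∀ second : Bool, H15.allBelow (fun n => (second && Nat.beq n 22) ||
    refutes [0, 1, 3, 4, 2, 5] (asgU (if second then 11 else 0) n)
      ((uRes.getD (if second then 1 else 0) []).getD n (99, 0))) 66 = true := by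
  decide +kernel

theorem base_relations : (wordEq [3, 1] (List.replicate 10 1 ++ [3]) &&
    wordEq [4, 1] ([1, 1, 1] ++ [4]) && wordEq [2, 1] [1, 2] &&
    wordEq [1, 0] [0, 0, 1]) = true := by
  decide +kernel

theorem G_W : G * W = W ^ 10 * G := by
  have h := base_relations
  simp only [Bool.and_eq_true] at h
  have := evW_eq_of_check (by decide) (by decide) h.1.1.1
  rwa [evW_append, evW_replicate, evW_singleton, evW_cons, evW_singleton] at this

theorem D_W : D * W = W ^ 3 * D := by
  have h := base_relations
  simp only [Bool.and_eq_true] at h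
  have := evW_eq_of_check (by decide) (by decide) h.1.1.2
  rw [show ([1, 1, 1] : List ℕ) = List.replicate 3 1 from rfl, evW_append, evW_replicate,
    evW_singleton, evW_cons, evW_singleton] at this
  exact this

theorem S_W : S * W = W * S := by
  have h := base_relations
  simp only [Bool.and_eq_true] at h
  have := evW_eq_of_check (by decide) (by decide) h.1.2
  simpa [evW, el] using this

theorem W_X : W * X = X ^ 2 * W := by
  have h := base_relations
  simp only [Bool.and_eq_true] at h
  have := evW_eq_of_check (by decide) (by decide) h.2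
  simpa [evW, el, pow_two, mul_assoc] using this

/-- The image of an element multiplying `W` to a power differs from it by an element commuting
with `W`. -/
theorem image_coset {φ : Spor.Co1 ≃* Spor.Co1} (hW : φ W = W) {a : Spor.Co1} {n : ℕ}
    (ha : a * W = W ^ n * a) :
    ∃ k, k < 66 ∧ φ a = a * evW (cosetWords.getD k []) := by
  have h : φ a * W = W ^ n * φ a := by
    have := congrArg φ ha
    simpa [map_mul, map_pow, hW] using this
  have h1 : a⁻¹ * W ^ n = W * a⁻¹ := by
    rw [inv_mul_eq_iff_eq_mul, ← mul_assoc, ha, mul_inv_cancel_right]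
  have hq : (a⁻¹ * φ a) * W = W * (a⁻¹ * φ a) := by
    rw [mul_assoc, h, ← mul_assoc, h1, mul_assoc]
  obtain ⟨k, hk, e⟩ := centralizer_W hq
  exact ⟨k, hk, by rw [← e, mul_inv_cancel_left]⟩

theorem image_central {φ : Spor.Co1 ≃* Spor.Co1} (hW : φ W = W) {a : Spor.Co1}
    (ha : a * W = W * a) : ∃ k, k < 66 ∧ φ a = evW (cosetWords.getD k []) := by
  refine centralizer_W ?_
  have := congrArg φ ha
  simpa [map_mul, hW] using this

theorem coset_zero : evW (cosetWords.getD 0 []) = 1 := by
  have h := evW_eq_of_check (v := cosetWords.getD 0 []) (w := []) (cosetWord_lt 0)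
    (fun l hl => absurd hl (List.not_mem_nil)) (by decide +kernel)
  exact h

/-- Fixing `W` and sending `X` to a power `±1` forces fixing all six elements. -/
theorem fixes_all {φ : Spor.Co1 ≃* Spor.Co1} (neg : Bool) (hX : φ X = evW (xWord neg))
    (hW : φ W = W) : φ X = X ∧ φ W = W ∧ φ S = S ∧ φ G = G ∧ φ D = D ∧ φ U = U := by
  have h1 : φ (el 1) = evW [1] := by rw [evW_singleton]; exact hW
  obtain ⟨g, hg, eG⟩ := image_coset hW G_W
  obtain ⟨d, hd, eD⟩ := image_coset hW D_W
  obtain ⟨s, hs, eS⟩ := image_central hW S_W
  obtain ⟨u, hu, eU⟩ := image_central hW U_W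
  -- the inversion
  have hg' : g = 0 ∨ g = 11 := by
    have h := H15.allBelow_eq_true (gamma_check neg) g hg
    simp only [Bool.or_eq_true] at h
    rcases h with (e | e) | e
    · exact Or.inl (Nat.eq_of_beq_eq_true e)
    · exact Or.inr (Nat.eq_of_beq_eq_true e)
    · rw [not_refutes (φ := φ)] at e
      · exact Bool.noConfusion e
      · intro l hl
        simp only [List.mem_cons, List.not_mem_nil, or_false] at hl
        rcases hl with rfl | rfl | rfl
        exacts [hX, h1, eG]
  -- the cube twist
  have hgd : neg = false ∧ g = 0 ∧ d = 0 := by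
    have hsec : g = if decide (g = 11) then 11 else 0 := by rcases hg' with rfl | rfl <;> rfl
    have h := H15.allBelow_eq_true (delta_check neg (decide (g = 11))) d hd
    rw [← hsec] at h
    simp only [Bool.or_eq_true, Bool.and_eq_true, Bool.not_eq_true', decide_eq_false_iff_not] at h
    rcases h with ⟨⟨e1, e2⟩, e3⟩ | e
    · exact ⟨e1, hg'.resolve_right e2, Nat.eq_of_beq_eq_true e3⟩
    · rw [not_refutes (φ := φ)] at e
      · exact Bool.noConfusion e
      · intro l hl
        simp only [List.mem_cons, List.not_mem_nil, or_false] at hl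
        rcases hl with rfl | rfl | rfl | rfl
        exacts [hX, h1, eG, eD]
  obtain ⟨rfl, rfl, rfl⟩ := hgd
  -- the sign change
  have hs' : s = 0 ∨ s = 11 := by
    have h := H15.allBelow_eq_true sign_check s hs
    simp only [Bool.or_eq_true] at h
    rcases h with (e | e) | e
    · exact Or.inl (Nat.eq_of_beq_eq_true e)
    · exact Or.inr (Nat.eq_of_beq_eq_true e)
    · rw [not_refutes (φ := φ)] at e
      · exact Bool.noConfusion e
      · intro l hl
        simp only [List.mem_cons, List.not_mem_nil, or_false] at hl
        rcases hl with rfl | rfl | rfl | rfl | rfl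
        exacts [hX, h1, eG, eD, eS]
  -- the last element
  have hsu : s = 11 ∧ u = 22 := by
    have hsec : s = if decide (s = 11) then 11 else 0 := by rcases hs' with rfl | rfl <;> rfl
    have h := H15.allBelow_eq_true (u_check (decide (s = 11))) u hu
    rw [← hsec] at h
    simp only [Bool.or_eq_true, Bool.and_eq_true, decide_eq_true_eq] at h
    rcases h with ⟨e1, e2⟩ | e
    · exact ⟨e1, Nat.eq_of_beq_eq_true e2⟩
    · rw [not_refutes (φ := φ)] at e
      · exact Bool.noConfusion e
      · intro l hl
        simp only [List.mem_cons, List.not_mem_nil, or_false] at hl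
        rcases hl with rfl | rfl | rfl | rfl | rfl | rfl
        exacts [hX, h1, eG, eD, eS, eU]
  obtain ⟨rfl, rfl⟩ := hsu
  rw [coset_zero, mul_one] at eG eD
  refine ⟨hX.trans (evW_singleton 0), hW, eS.trans ?_, eG, eD, eU.trans ?_⟩
  · have h := evW_eq_of_check (v := cosetWords.getD 11 []) (w := [2]) (cosetWord_lt 11)
      (by decide) (by decide +kernel)
    rwa [evW_singleton] at h
  · have h := evW_eq_of_check (v := cosetWords.getD 22 []) (w := [5]) (cosetWord_lt 22)
      (by decide) (by decide +kernel)
    rwa [evW_singleton] at h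

end Cfsg.Agent.H56.Co1Aut
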