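import Cfsg.Agent.H56.Co1Aut.Monomial

/-!
The centralisers of the elements of order 23 and 11 in the first Conway group.
-/

set_option autoImplicit false
set_option maxRecDepth 100000

namespace Cfsg.Agent.H56.Co1Aut

open Cfsg Cfsg.Agent.H14 Cfsg.Agent.H16 Finset

/-- Test that `S` contains the fixed vectors of `A`. -/
noncomputable def fixOk (A P E S : List ℕ) : Bool :=
  A.length == 24 && P.length == 24 && E.length == 24 &&
  H15.allBelow (fun j =>
    Nat.beq (ap P (2 ^ j ^^^ A.getD j 0) ^^^ E.getD j 0) (2 ^ j) && S.contains (E.getD j 0)) 24 &&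
  S.contains 0 && S.all (fun a => S.all fun b => S.contains (a ^^^ b))

theorem apGo_mem {S : List ℕ} (hS : ∀ a ∈ S, ∀ b ∈ S, a ^^^ b ∈ S) : ∀ (E : List ℕ) (k acc : ℕ),
    (∀ e ∈ E, e ∈ S) → acc ∈ S → apGo E k acc ∈ S
  | [], _, _, _, h => by simpa [apGo] using h
  | e :: E, k, acc, hE, h => by
    rw [apGo, forceNat_eq, forceNat_eq]
    refine apGo_mem hS E _ _ (fun a ha => hE a (List.mem_cons_of_mem _ ha)) ?_
    split
    · exact hS _ h _ (hE e (List.mem_cons_self ..))
    · exact h

/-- A fixed vector belongs to the list. -/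
theorem fixed_mem {A P E S : List ℕ} (hc : fixOk A P E S = true) {u : Fin 24 → ZMod 2}
    (hu : lin A u = u) : ∃ s ∈ S, u = vecB s := by
  simp only [fixOk, Bool.and_eq_true, beq_iff_eq, List.all_eq_true, List.contains_iff_mem] at hc
  obtain ⟨⟨⟨⟨⟨hA, hP⟩, hE⟩, hj⟩, h0⟩, hS⟩ := hc
  have hid : ∀ w : Fin 24 → ZMod 2, lin P (w + lin A w) + lin E w = w := by
    intro w
    rw [eq_sum_single w]
    refine Finset.sum_induction _ (fun z => lin P (z + lin A z) + lin E z = z) ?_ ?_ ?_
    · intro a b ha hb
      simp only [lin_add] at ha hb ⊢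
      linear_combination ha + hb
    · simp [lin]
    · intro j _
      rcases (by decide : ∀ z : ZMod 2, z = 0 ∨ z = 1) (w j) with z | z <;> rw [z]
      · simp [lin]
      · have h := H15.allBelow_eq_true hj _ j.2
        rw [Bool.and_eq_true] at h
        have h1 := congrArg vecB (Nat.eq_of_beq_eq_true h.1)
        rw [vecB_xor, vecB_ap hP, vecB_xor, vecB_pow] at h1
        rwa [one_smul, lin_single, lin_single]
  have := hid u
  rw [hu, show u + u = 0 from funext fun i => (by decide : ∀ z : ZMod 2, z + z = 0) (u i),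
    show lin P 0 = 0 by simp [lin], zero_add] at this
  obtain ⟨k, -, hk⟩ := exists_vecB u
  refine ⟨ap E k, apGo_mem hS E k 0 (fun e he => ?_) h0, by rw [vecB_ap hE, hk, this]⟩
  obtain ⟨j, hjl, rfl⟩ := List.mem_iff_getElem.1 he
  have h := H15.allBelow_eq_true hj j (hE ▸ hjl)
  rw [Bool.and_eq_true, List.contains_iff_mem, List.getD_eq_getElem _ _ hjl] at h
  exact h.2

/-- The coordinates modulo two of a list vector. -/
noncomputable def bitsEq (r : List ℤ) (k : ℕ) : Bool :=
  r.length == 24 && H15.allBelow (fun i =>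
    decide ((H15.listDot (dualRows.getD i []) r / 8) % 2 = 1) == k.testBit i) 24

theorem red_of_bitsEq {r : List ℤ} {k : ℕ} (h : bitsEq r k = true) :
    red (H15.toVec r) = vecB k := by
  simp only [bitsEq, Bool.and_eq_true, beq_iff_eq] at h
  funext i
  have hi := H15.allBelow_eq_true h.2 _ i.2
  rw [beq_iff_eq] at hi
  simp only [red, cd, cV, dotInt_toVec (basis_length i).2 h.1, vecB, ← hi, decide_eq_true_eq]
  split
  · rw [show (1 : ZMod 2) = ((1 : ℤ) : ZMod 2) by simp, ZMod.intCast_eq_intCast_iff']
    omega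
  · rw [ZMod.intCast_zmod_eq_zero_iff_dvd]
    omega

/-- Test for a short representative of a class. -/
noncomputable def repOk (k : ℕ) (r : List ℤ) : Bool :=
  bitsEq r k && H15.leechOk r && decide (H15.listDot r r < 64)

/-- A class with a short representative contains no vector of squared length 64. -/
theorem not_red_short {k : ℕ} {r : List ℤ} (h : repOk k r = true) {v : V} (hv : IsLeech v)
    (hn : sqNorm v = 64) : red v ≠ vecB k := by
  intro e
  simp only [repOk, Bool.and_eq_true, decide_eq_true_eq] at h
  have hr := H15.leechOk_spec h.1.2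
  have hlen : r.length = 24 := by
    have := h.1.1; simp only [bitsEq, Bool.and_eq_true, beq_iff_eq] at this; exact this.1
  have hnr : sqNorm (H15.toVec r) < 64 := by
    rw [← dotInt_self, dotInt_toVec hlen hlen]; exact h.2
  obtain ⟨z, hz, hd⟩ := congr_of_red hr hv ((red_of_bitsEq h.1.1).trans e.symm)
  rcases congr_two_cases hr hv hz hd hnr.le hn.le with e' | e' | ⟨e', -, -⟩
  · rw [e'] at hn; omega
  · have hneg : sqNorm (-(H15.toVec r)) = sqNorm (H15.toVec r) := by simp [sqNorm]
    rw [e', hneg] at hn; omega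
  · omega

theorem not_red_zero {v : V} (hv : IsLeech v) (hn : sqNorm v = 64) : red v ≠ vecB 0 := by
  intro e
  obtain ⟨z, hz, hd⟩ := congr_of_red hv isLeech_zero (e.trans (vecB_zero.trans red_zero.symm))
  rw [sub_zero] at hd
  have h4 : sqNorm v = 4 * sqNorm z := by
    rw [hd, sqNorm, sqNorm, mul_sum]; exact sum_congr rfl fun i _ => by simp; ring
  have hz0 : z ≠ 0 := fun h => by rw [h, hn, H14.sqNorm_zero] at h4; omega
  have := hz.min_sqNorm hz0
  omega

/-- Congruence with an image of a point of the standard cross. -/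
theorem mem_crossStab_of_red {g h : Co0}
    (e : red (act g (eight oo)) = red (act h (eight oo))) : h⁻¹ * g ∈ crossStab := by
  have h8 := isLeech_eight oo
  obtain ⟨z, hz, hd⟩ := congr_of_red (isLeech_act h h8) (isLeech_act g h8) e.symm
  set r := act (h⁻¹ * g) (eight oo) with hr
  have hmem : r ∈ stdCross := by
    rw [← cross_eight oo, mem_cross_iff]
    refine ⟨isLeech_act _ h8, sqNorm_act _ h8, act h⁻¹ z, isLeech_act _ hz, ?_⟩
    rw [← act_two_smul h⁻¹ hz, ← hd, act_sub _ (isLeech_act h h8) (isLeech_act g h8), inv_act_act,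
      hr, mul_act]
  have hc : cross r = stdCross := by
    obtain ⟨p, hp⟩ := mem_stdCross_iff.1 hmem
    rcases hp with hp | hp <;> rw [hp]
    · exact cross_eight p
    · rw [← act_negOne (isLeech_eight p), cross_act negOne (isLeech_eight p), cross_eight]
      exact signAut_mem_crossStab 1 one_mem_golayCode
  show act (h⁻¹ * g) '' stdCross = stdCross
  conv_lhs => rw [← cross_eight oo]
  rw [← cross_act _ h8, ← hr, hc]

/-- The class of the first point of the standard cross. -/
theorem red_eight : red (eight oo) = vecB (2 ^ 23) := by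
  have e : eight oo = H15.toVec (List.replicate 23 0 ++ [8]) := by
    funext p; revert p; decide +kernel
  rw [e]
  exact red_of_bitsEq (by decide +kernel)

/-- An element fixing the point and commuting with another one maps it to a fixed class. -/
theorem red_fixed {a q : Spor.Co1} {A : List ℕ} (hA : A.length = 24) (ha : Rep a (ap A))
    (hcom : q * a = a * q) {g k : Co0} (hg : mk g = q) (hk : mk k = a)
    (hfix : act k (eight oo) = eight oo) :
    lin A (red (act g (eight oo))) = red (act g (eight oo)) := by
  have h8 := isLeech_eight oo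
  obtain ⟨m, -, hm⟩ := exists_vecB (red (act g (eight oo)))
  have h1 := ha k hk _ m (isLeech_act g h8) hm.symm
  rw [vecB_ap hA, hm] at h1
  rw [← h1, ← mul_act]
  have h2 : mk (g * k) = mk (k * g) := by rw [map_mul, map_mul, hg, hk, hcom]
  rcases mk_eq_mk.1 h2 with e | e
  · rw [e, mul_act, hfix]
  · rw [e, mul_act, act_negOne (isLeech_act _ h8), red_neg (isLeech_act _ h8), mul_act, hfix]

theorem fix_checks :
    (fixOk (tbl.getD 0 []) xP xE xFix && fixOk (tbl.getD 1 []) wP wE wFix &&
      H15.allBelow (fun i => Nat.beq (xFix.getD i 0) 0 || Nat.beq (xFix.getD i 0) (2 ^ 23) ||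
        repOk (xFix.getD i 0) (xReps.getD i [])) xFix.length &&
      H15.allBelow (fun i => Nat.beq (wFix.getD i 0) 0 ||
        (Nat.blt (wIdx.getD i 3) 3 &&
          Nat.beq (apWord (List.replicate (wIdx.getD i 3) 5) (2 ^ 23)) (wFix.getD i 0)) ||
        repOk (wFix.getD i 0) (wReps.getD i [])) wFix.length) = true := by
  decide +kernel

theorem mono_fix_oo {σ : Equiv.Perm GolayPt} (hσ : σ ∈ M24) (h : σ oo = oo) :
    act (monoAut σ hσ 0 (zero_mem _)) (eight oo) = eight oo := by
  rw [act_monoAut hσ _ (isLeech_eight oo), permFun_eight, h]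
  funext i; simp [signFun]

/-- The centraliser of `X` is generated by it. -/
theorem centralizer_X {q : Spor.Co1} (h : q * X = X * q) : ∃ i : ℕ, q = X ^ i := by
  obtain ⟨g, rfl⟩ := mk_surjective q
  have hc := fix_checks
  simp only [Bool.and_eq_true] at hc
  have hfixed := red_fixed (A := tbl.getD 0 []) (by decide +kernel) (rep_el 0 (by norm_num))
    h rfl X_eq.symm (mono_fix_oo shiftP_mem rfl)
  obtain ⟨s, hs, es⟩ := fixed_mem hc.1.1.1 hfixed
  obtain ⟨i, hi, rfl⟩ := List.mem_iff_getElem.1 hs
  have hv := isLeech_act g (isLeech_eight oo)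
  have hn : sqNorm (act g (eight oo)) = 64 := by
    rw [sqNorm_act g (isLeech_eight oo), sqNorm_eight]
  have hi' := H15.allBelow_eq_true hc.1.2 i hi
  simp only [Bool.or_eq_true, List.getD_eq_getElem _ _ hi] at hi'
  rcases hi' with (e | e) | e
  · exact absurd (es.trans (congrArg vecB (Nat.eq_of_beq_eq_true e))) (not_red_zero hv hn)
  · have hmem := mem_crossStab_of_red (g := g) (h := 1) (by
      rw [one_act, es, Nat.eq_of_beq_eq_true e, red_eight])
    rw [inv_one, one_mul] at hmem
    exact mono_comm_X hmem h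
  · exact absurd es (not_red_short e hv hn)

theorem U_W : U * W = W * U := by
  have h := evW_eq_of_check (v := [5, 1]) (w := [1, 5]) (by decide) (by decide) (by decide +kernel)
  simpa [evW, el] using h

theorem coset_check : H15.allBelow (fun n =>
    wordEq (List.replicate (n / 22) 5 ++ List.replicate (n / 11 % 2) 2 ++ List.replicate (n % 11) 1)
      (cosetWords.getD n [])) 66 = true := by decide +kernel

theorem coset_words_lt : ∀ c ∈ cosetWords, ∀ l ∈ c, l < 19 := by decide +kernel

theorem cosetWord_lt (n : ℕ) : ∀ l ∈ cosetWords.getD n [], l < 19 := by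
  by_cases h : n < cosetWords.length
  · rw [List.getD_eq_getElem _ _ h]
    exact coset_words_lt _ (List.getElem_mem h)
  · rw [List.getD_eq_default _ _ (not_lt.1 h)]
    exact fun l hl => absurd hl (List.not_mem_nil)

/-- The centraliser of `W` consists of the listed elements. -/
theorem centralizer_W {q : Spor.Co1} (h : q * W = W * q) :
    ∃ n, n < 66 ∧ q = evW (cosetWords.getD n []) := by
  obtain ⟨g, rfl⟩ := mk_surjective q
  have hc := fix_checks
  simp only [Bool.and_eq_true] at hc
  have hfixed := red_fixed (A := tbl.getD 1 []) (by decide +kernel) (rep_el 1 (by norm_num))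
    h rfl W_eq.symm (mono_fix_oo dblP_mem rfl)
  obtain ⟨s, hs, es⟩ := fixed_mem hc.1.1.2 hfixed
  obtain ⟨i, hi, rfl⟩ := List.mem_iff_getElem.1 hs
  have hv := isLeech_act g (isLeech_eight oo)
  have hn : sqNorm (act g (eight oo)) = 64 := by
    rw [sqNorm_act g (isLeech_eight oo), sqNorm_eight]
  have hi' := H15.allBelow_eq_true hc.2 i hi
  simp only [Bool.or_eq_true, Bool.and_eq_true, List.getD_eq_getElem _ _ hi, Nat.blt_eq] at hi'
  rcases hi' with (e | ⟨hk, e⟩) | e
  · exact absurd (es.trans (congrArg vecB (Nat.eq_of_beq_eq_true e))) (not_red_zero hv hn)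
  · set k := wIdx.getD i 3
    obtain ⟨u, hu⟩ := mk_surjective (U ^ k)
    have hrep := rep_evW (w := List.replicate k 5) fun l hl => by
      rw [List.eq_of_mem_replicate hl]; norm_num
    rw [evW_replicate] at hrep
    have hred : red (act g (eight oo)) = red (act u (eight oo)) := by
      rw [es, ← Nat.eq_of_beq_eq_true e]
      exact (hrep u hu _ _ (isLeech_eight oo) red_eight).symm
    have hmem := mem_crossStab_of_red hred
    have hUk : Commute (U ^ k) W := (show Commute U W from U_W).pow_left k
    have hcomm : mk (u⁻¹ * g) * W = W * mk (u⁻¹ * g) := by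
      rw [map_mul, map_inv, hu]
      exact (hUk.inv_left.mul_left h).eq
    obtain ⟨j, m, hj, hm, e'⟩ := mono_comm_W hmem hcomm
    rw [map_mul, map_inv, hu, inv_mul_eq_iff_eq_mul] at e'
    refine ⟨22 * k + 11 * j + m, by omega, ?_⟩
    have hn1 : (22 * k + 11 * j + m) / 22 = k := by omega
    have hn2 : (22 * k + 11 * j + m) / 11 % 2 = j := by omega
    have hn3 : (22 * k + 11 * j + m) % 11 = m := by omega
    have hw := H15.allBelow_eq_true coset_check (22 * k + 11 * j + m) (by omega)
    rw [hn1, hn2, hn3] at hw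
    rw [← evW_eq_of_check (fun l hl => ?_) (cosetWord_lt _) hw, e', evW_append, evW_append,
      evW_replicate, evW_replicate, evW_replicate, mul_assoc]
    · rfl
    · simp only [List.mem_append] at hl
      rcases hl with (hl | hl) | hl <;> rw [List.eq_of_mem_replicate hl] <;> norm_num
  · exact absurd es (not_red_short e hv hn)

end Cfsg.Agent.H56.Co1Aut
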