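import Cfsg.Agent.H56.Co1Aut.Basic
import Cfsg.Agent.H11.M24Chain

/-!
The generating elements of the first Conway group and their action modulo two.
-/

set_option autoImplicit false
set_option maxRecDepth 100000

namespace Cfsg.Agent.H56.Co1Aut

open Cfsg Cfsg.Agent.H14 Cfsg.Agent.H16 Finset

theorem act_matAut (M : H15.Mat) (h : M.ok = true) {x : V} (hx : IsLeech x) :
    act (H15.matAut M h) x = H15.divMap M.cols x := by
  rw [act_of_isLeech _ hx, H15.matAut, mkCo0_apply]

theorem divMap_toVec {M : H15.Mat} (h : M.ok = true) {b : List ℤ} (hb : b.length = 24) :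
    H15.divMap M.cols (H15.toVec b) =
      H15.toVec ((M.rows.map fun r => H15.listDot r b).map fun z => z / 8) := by
  obtain ⟨ht, -, -, -, -, hr, -, -⟩ := H15.Mat.ok_spec h
  obtain ⟨hlen, hl, -⟩ := H15.sizeOk_spec hr
  funext p
  have hp : H15.idx p < M.rows.length := by rw [hlen]; exact H15.idx_lt p
  rw [H15.toVec, H15.getD_map_of_lt (e := (0 : ℤ)) _ (by simpa using hp),
    H15.getD_map_of_lt (e := ([] : List ℤ)) _ hp,
    H15.listDot_eq (by rw [hl _ (H15.idx_lt p), hb]), hl _ (H15.idx_lt p),
    ← H15.sum24 (fun j => (M.rows.getD (H15.idx p) []).getD j 0 * b.getD j 0), H15.divMap]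
  congr 1
  simp only [Matrix.mulVec, dotProduct]
  refine sum_congr rfl fun q _ => ?_
  have := congrFun (congrFun ht q) p
  simp only [H15.colMat, Matrix.transpose_apply] at this
  simp only [H15.colMat, H15.toVec, this]

/-- Test that a matrix acts modulo two by a list of images. -/
noncomputable def colCheck (M : H15.Mat) (A : List ℕ) : Bool :=
  A.length == 24 && H15.allBelow (fun j =>
    let y := (M.rows.map fun r => H15.listDot r (basisRows.getD j [])).map fun z => z / 8
    H15.allBelow (fun i => decide ((H15.listDot (dualRows.getD i []) y / 8) % 2 = 1) ==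
      (A.getD j 0).testBit i) 24) 24

/-- A representation is given by the images of the basis. -/
theorem repL_of_basis {g : Co0} {A : List ℕ} (hA : A.length = 24)
    (h : ∀ j : Fin 24, red (act g (bV j)) = vecB (A.getD j.val 0)) : RepL g (ap A) := by
  intro v k hv hk
  let S : AddSubgroup V :=
    { carrier := {x | IsLeech x ∧ red (act g x) = lin A (red x)}
      zero_mem' := ⟨isLeech_zero, by
        have e : act g (0 : V) = 0 := by
          have := act_add g isLeech_zero isLeech_zero
          rwa [add_zero, left_eq_add] at this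
        rw [e, red_zero, lin]; simp⟩
      add_mem' := fun {x y} hx hy => ⟨hx.1.add hy.1, by
        rw [act_add _ hx.1 hy.1, red_add (isLeech_act _ hx.1) (isLeech_act _ hy.1), hx.2, hy.2,
          red_add hx.1 hy.1, lin_add]⟩
      neg_mem' := fun {x} hx => ⟨hx.1.neg, by
        rw [act_neg _ hx.1, red_neg (isLeech_act _ hx.1), red_neg hx.1, hx.2]⟩ }
  have hmem : v ∈ S := by
    rw [← comb_cd hv, show comb (cd v) = ∑ i, cd v i • bV i from by
      funext p; simp [comb, Finset.sum_apply]]
    exact sum_mem fun i _ => zsmul_mem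
      (show bV i ∈ S from ⟨isLeech_bV i, by rw [h i, red_bV, lin_single]⟩) _
  rw [hmem.2, hk, vecB_ap hA]

theorem repL_matAut {M : H15.Mat} (h : M.ok = true) {A : List ℕ} (hc : colCheck M A = true) :
    RepL (H15.matAut M h) (ap A) := by
  simp only [colCheck, Bool.and_eq_true, beq_iff_eq] at hc
  refine repL_of_basis hc.1 fun j => ?_
  have hb := (basis_length j).1
  rw [act_matAut M h (isLeech_bV j), bV, divMap_toVec h hb]
  funext i
  have hi := H15.allBelow_eq_true (H15.allBelow_eq_true hc.2 _ j.2) _ i.2
  rw [beq_iff_eq] at hi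
  have hlen : ((M.rows.map fun r => H15.listDot r (basisRows.getD j.val [])).map
      fun z => z / 8).length = 24 := by
    rw [List.length_map, List.length_map]
    exact (H15.sizeOk_spec (H15.Mat.ok_spec h).2.2.2.2.2.1).1
  simp only [red, cd, cV, dotInt_toVec (basis_length i).2 hlen, vecB, ← hi, decide_eq_true_eq]
  split
  · rw [show (1 : ZMod 2) = ((1 : ℤ) : ZMod 2) by simp, ZMod.intCast_eq_intCast_iff']
    omega
  · rw [ZMod.intCast_zmod_eq_zero_iff_dvd]
    omega

theorem mats_ok : (matX.ok && matW.ok && matS.ok && matG.ok && matD.ok && matU.ok) = true := by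
  decide +kernel

theorem matX_ok : matX.ok = true := by
  have := mats_ok; simp only [Bool.and_eq_true] at this; exact this.1.1.1.1.1

theorem matW_ok : matW.ok = true := by
  have := mats_ok; simp only [Bool.and_eq_true] at this; exact this.1.1.1.1.2

theorem matS_ok : matS.ok = true := by
  have := mats_ok; simp only [Bool.and_eq_true] at this; exact this.1.1.1.2

theorem matG_ok : matG.ok = true := by
  have := mats_ok; simp only [Bool.and_eq_true] at this; exact this.1.1.2

theorem matD_ok : matD.ok = true := by
  have := mats_ok; simp only [Bool.and_eq_true] at this; exact this.1.2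

theorem matU_ok : matU.ok = true := by
  have := mats_ok; simp only [Bool.and_eq_true] at this; exact this.2

/-- The element of order 23. -/
noncomputable def X : Spor.Co1 := mk (H15.matAut matX matX_ok)

/-- The element of order 11 normalising the subgroup of order 23. -/
noncomputable def W : Spor.Co1 := mk (H15.matAut matW matW_ok)

/-- A sign change. -/
noncomputable def S : Spor.Co1 := mk (H15.matAut matS matS_ok)

/-- The inversion of the projective line. -/
noncomputable def G : Spor.Co1 := mk (H15.matAut matG matG_ok)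

/-- The cube twist. -/
noncomputable def D : Spor.Co1 := mk (H15.matAut matD matD_ok)

/-- An element outside the monomial group centralising `W`. -/
noncomputable def U : Spor.Co1 := mk (H15.matAut matU matU_ok)

/-- The element of a letter. -/
noncomputable def el : ℕ → Spor.Co1
  | 0 => X
  | 1 => W
  | 2 => S
  | 3 => G
  | 4 => D
  | 5 => U
  | 6 => X⁻¹
  | 7 => U * U
  | (i + 8) => W ^ i

/-- The element of a word. -/
noncomputable def evW (w : List ℕ) : Spor.Co1 := (w.map el).prod

/-- The action of a word. -/
noncomputable def apWord : List ℕ → ℕ → ℕ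
  | [], k => k
  | l :: w, k => forceNat (apWord w k) fun k' => ap (tbl.getD l []) k'

theorem evW_nil : evW [] = 1 := rfl

theorem evW_cons (l : ℕ) (w : List ℕ) : evW (l :: w) = el l * evW w := rfl

theorem evW_append (v w : List ℕ) : evW (v ++ w) = evW v * evW w := by
  simp [evW]

theorem evW_replicate (n l : ℕ) : evW (List.replicate n l) = el l ^ n := by
  simp [evW]

theorem evW_singleton (l : ℕ) : evW [l] = el l := by simp [evW]

theorem rep_evW' : ∀ w : List ℕ, (∀ l ∈ w, Rep (el l) (ap (tbl.getD l []))) →
    Rep (evW w) (apWord w)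
  | [], _ => rep_one
  | l :: w, h => by
    have e : apWord (l :: w) = ap (tbl.getD l []) ∘ apWord w := by
      funext k; rw [Function.comp_apply, apWord, forceNat_eq]
    rw [evW_cons, e]
    exact (h l (List.mem_cons_self ..)).mul
      (rep_evW' w fun m hm => h m (List.mem_cons_of_mem _ hm))

/-- Test that two words act equally on the basis. -/
noncomputable def wordEq (v w : List ℕ) : Bool :=
  H15.allBelow (fun j => Nat.beq (apWord v (2 ^ j)) (apWord w (2 ^ j))) 24

/-- Test that a word acts by a list of images. -/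
noncomputable def tblEq (w : List ℕ) (A : List ℕ) : Bool :=
  A.length == 24 && H15.allBelow (fun j => Nat.beq (apWord w (2 ^ j)) (A.getD j 0)) 24

theorem rep_of_tblEq {q : Spor.Co1} {w A : List ℕ} (h : Rep q (apWord w))
    (hc : tblEq w A = true) : Rep q (ap A) := by
  simp only [tblEq, Bool.and_eq_true, beq_iff_eq] at hc
  obtain ⟨g, rfl⟩ := mk_surjective q
  refine (repL_of_basis hc.1 fun j => ?_).rep
  rw [h g rfl _ (2 ^ j.val) (isLeech_bV j) (by rw [red_bV, vecB_pow]),
    Nat.eq_of_beq_eq_true (H15.allBelow_eq_true hc.2 _ j.2)]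

theorem base_checks : (colCheck matX (tbl.getD 0 []) && colCheck matW (tbl.getD 1 []) &&
    colCheck matS (tbl.getD 2 []) && colCheck matG (tbl.getD 3 []) &&
    colCheck matD (tbl.getD 4 []) && colCheck matU (tbl.getD 5 [])) = true := by decide +kernel

theorem rep_base : ∀ l < 6, Rep (el l) (ap (tbl.getD l [])) := by
  have h := base_checks
  simp only [Bool.and_eq_true] at h
  intro l hl
  interval_cases l
  exacts [(repL_matAut matX_ok h.1.1.1.1.1).rep, (repL_matAut matW_ok h.1.1.1.1.2).rep,
    (repL_matAut matS_ok h.1.1.1.2).rep, (repL_matAut matG_ok h.1.1.2).rep,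
    (repL_matAut matD_ok h.1.2).rep, (repL_matAut matU_ok h.2).rep]

theorem derived_checks : (wordEq (List.replicate 23 0) [] && tblEq (List.replicate 22 0) (tbl.getD 6 []) &&
    tblEq [5, 5] (tbl.getD 7 []) &&
    H15.allBelow (fun i => tblEq (List.replicate i 1) (tbl.getD (i + 8) [])) 11) = true := by
  decide +kernel

theorem X_pow_prime : X ^ 23 = 1 := by
  have h := derived_checks
  simp only [Bool.and_eq_true] at h
  have hr := rep_evW' (List.replicate 23 0) fun l hl => rep_base l (by
    rw [List.eq_of_mem_replicate hl]; norm_num)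
  have hr' := rep_evW' [] fun l hl => absurd hl (List.not_mem_nil)
  have := Rep.eq hr hr' fun j => Nat.eq_of_beq_eq_true (H15.allBelow_eq_true h.1.1.1 _ j.2)
  rwa [evW_replicate, evW_nil] at this

theorem rep_el : ∀ l < 19, Rep (el l) (ap (tbl.getD l [])) := by
  intro l hl
  have h := derived_checks
  simp only [Bool.and_eq_true] at h
  by_cases h6 : l < 6
  · exact rep_base l h6
  by_cases e6 : l = 6
  · subst e6
    have hr := rep_evW' (List.replicate 22 0) fun m hm => rep_base m (by
      rw [List.eq_of_mem_replicate hm]; norm_num)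
    rw [evW_replicate] at hr
    have e : el 0 ^ 22 = el 6 := by
      show X ^ 22 = X⁻¹
      exact eq_inv_of_mul_eq_one_left (by rw [← pow_succ]; exact X_pow_prime)
    rw [e] at hr
    exact rep_of_tblEq hr h.1.1.2
  by_cases e7 : l = 7
  · subst e7
    have hr := rep_evW' [5, 5] fun m hm => rep_base m (by
      simp only [List.mem_cons, List.not_mem_nil, or_false] at hm; omega)
    have e : evW [5, 5] = el 7 := by simp [evW, el]
    rw [e] at hr
    exact rep_of_tblEq hr h.1.2
  obtain ⟨i, rfl⟩ : ∃ i, l = i + 8 := ⟨l - 8, by omega⟩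
  have hr := rep_evW' (List.replicate i 1) fun m hm => rep_base m (by
    rw [List.eq_of_mem_replicate hm]; norm_num)
  rw [evW_replicate] at hr
  exact rep_of_tblEq hr (H15.allBelow_eq_true h.2 i (by omega))

theorem rep_evW {w : List ℕ} (h : ∀ l ∈ w, l < 19) : Rep (evW w) (apWord w) :=
  rep_evW' w fun l hl => rep_el l (h l hl)

/-- Equal actions give equal elements. -/
theorem evW_eq_of_check {v w : List ℕ} (hv : ∀ l ∈ v, l < 19) (hw : ∀ l ∈ w, l < 19)
    (h : wordEq v w = true) : evW v = evW w :=
  Rep.eq (rep_evW hv) (rep_evW hw) fun j =>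
    Nat.eq_of_beq_eq_true (H15.allBelow_eq_true h _ j.2)

/-- Different actions give different elements. -/
theorem evW_ne_one_of_check {w : List ℕ} (hw : ∀ l ∈ w, l < 19) {k : ℕ}
    (h : apWord w k % 2 ^ 24 ≠ k % 2 ^ 24) : evW w ≠ 1 := fun e =>
  h ((e ▸ rep_evW hw).agree rep_one k)

/-! ### The monomial elements -/

/-- The translation of the projective line. -/
def shiftP : Equiv.Perm GolayPt := Equiv.optionCongr (Equiv.addRight (1 : ZMod 23))

/-- The doubling of the projective line. -/
def dblP : Equiv.Perm GolayPt where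
  toFun := Option.map (2 * ·)
  invFun := Option.map (12 * ·)
  left_inv := by decide
  right_inv := by decide

theorem shiftP_mem : shiftP ∈ M24 :=
  H11.m24Gens_le (Subgroup.subset_closure (Or.inl rfl))

theorem projInv_mem : projInv ∈ M24 :=
  H11.m24Gens_le (Subgroup.subset_closure (Or.inr (Or.inl rfl)))

theorem cubeTwist_mem : cubeTwist ∈ M24 :=
  H11.m24Gens_le (Subgroup.subset_closure (Or.inr (Or.inr rfl)))

theorem dblP_mem : dblP ∈ M24 := by
  have e : dblP = projInv * shiftP ^ 14 * projInv * shiftP ^ 5 * projInv * shiftP ^ 14 := by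
    refine Equiv.ext ?_
    decide +kernel
  rw [e]
  exact mul_mem (mul_mem (mul_mem (mul_mem (mul_mem projInv_mem (pow_mem shiftP_mem _)) projInv_mem)
    (pow_mem shiftP_mem _)) projInv_mem) (pow_mem shiftP_mem _)

theorem qrWord_mem (t : ZMod 23) : qrWord t ∈ golayCode :=
  Submodule.subset_span (Or.inl ⟨t, rfl⟩)

/-- A matrix with one entry in each column is monomial. -/
theorem matAut_eq_mono {M : H15.Mat} (h : M.ok = true) {σ : Equiv.Perm GolayPt} (hσ : σ ∈ M24)
    {c : GolayPt → ZMod 2} (hc : c ∈ golayCode)
    (he : ∀ p q : GolayPt, (M.cols.getD (H15.idx q) []).getD (H15.idx p) (0 : ℤ) =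
      if σ q = p then (if c p = 0 then (8 : ℤ) else -8) else 0) :
    H15.matAut M h = monoAut σ hσ c hc := by
  replace he : ∀ p q : GolayPt, H15.colMat M.cols p q =
      if σ q = p then (if c p = 0 then (8 : ℤ) else -8) else 0 := he
  refine act_eq_of_forall fun x hx => ?_
  rw [act_matAut M h hx, act_monoAut hσ hc hx]
  funext p
  rw [H15.divMap, Matrix.mulVec, dotProduct, Fintype.sum_eq_single (σ.symm p) fun q hq => by
    rw [he, if_neg (fun e => hq (by rw [← e, Equiv.symm_apply_apply])), zero_mul]]
  rw [he, if_pos (σ.apply_symm_apply p)]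
  by_cases e : c p = 0
  · simp [signFun, permFun, e]
  · simp only [if_neg e, signFun, permFun]; omega

theorem X_eq : X = mk (monoAut shiftP shiftP_mem 0 (zero_mem _)) :=
  congrArg mk (matAut_eq_mono matX_ok _ _ (by decide +kernel))

theorem W_eq : W = mk (monoAut dblP dblP_mem 0 (zero_mem _)) :=
  congrArg mk (matAut_eq_mono matW_ok _ _ (by decide +kernel))

theorem S_eq : S = mk (monoAut 1 (one_mem _) (qrWord 0) (qrWord_mem 0)) :=
  congrArg mk (matAut_eq_mono matS_ok _ _ (by decide +kernel))

theorem G_eq : G = mk (monoAut projInv projInv_mem 0 (zero_mem _)) :=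
  congrArg mk (matAut_eq_mono matG_ok _ _ (by decide +kernel))

theorem D_eq : D = mk (monoAut cubeTwist cubeTwist_mem 0 (zero_mem _)) := by
  refine congrArg mk (matAut_eq_mono matD_ok _ _ ?_)
  simp only [cubeTwist, Equiv.ofBijective_apply]
  decide +kernel

end Cfsg.Agent.H56.Co1Aut
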