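import Cfsg.Agent.H56.Co1Aut.Candidates
import Cfsg.Prelude.Def_KGroupFacts

/-!
Every automorphism of the first Conway group is inner.
-/

set_option autoImplicit false
set_option maxRecDepth 100000

namespace Cfsg.Agent.H56.Co1Aut

open Cfsg Cfsg.Agent.H14

/-- The six elements. -/
def gensSet : Set Spor.Co1 := {X, W, S, G, D, U}

theorem mem_closure_perm {σ : Equiv.Perm GolayPt} (hσ : σ ∈ M24) :
    mk (monoAut σ hσ 0 (zero_mem _)) ∈ Subgroup.closure gensSet := by
  let P : Subgroup (Equiv.Perm GolayPt) :=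
    { carrier := {τ | ∃ hτ : τ ∈ M24, mk (monoAut τ hτ 0 (zero_mem _)) ∈ Subgroup.closure gensSet}
      one_mem' := ⟨one_mem _, by
        rw [show monoAut 1 (one_mem _) 0 (zero_mem _) =
            monoAut shiftP shiftP_mem 0 (zero_mem _) ^ 0 from
          ((mono_pow shiftP_mem 0).trans (monoAut_congr (pow_zero _) rfl)).symm, pow_zero, map_one]
        exact one_mem _⟩
      mul_mem' := by
        rintro a b ⟨ha, ha'⟩ ⟨hb, hb'⟩
        refine ⟨mul_mem ha hb, ?_⟩
        rw [show monoAut (a * b) (mul_mem ha hb) 0 (zero_mem _) =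
            monoAut a ha 0 (zero_mem _) * monoAut b hb 0 (zero_mem _) from by
          rw [monoAut_mul]; exact monoAut_congr rfl (by funext i; simp), map_mul]
        exact mul_mem ha' hb'
      inv_mem' := by
        rintro a ⟨ha, ha'⟩
        refine ⟨inv_mem ha, ?_⟩
        rw [show monoAut a⁻¹ (inv_mem ha) 0 (zero_mem _) = (monoAut a ha 0 (zero_mem _))⁻¹ from by
          refine eq_inv_of_mul_eq_one_left ?_
          rw [monoAut_mul, ← (pow_zero (monoAut shiftP shiftP_mem 0 (zero_mem _))), mono_pow]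
          exact monoAut_congr (by simp) (by funext i; simp), map_inv]
        exact inv_mem ha' }
  have hle : H11.m24Gens ≤ P := by
    rw [H11.m24Gens, Subgroup.closure_le]
    rintro τ (rfl | rfl | rfl)
    · exact ⟨shiftP_mem, X_eq ▸ Subgroup.subset_closure (Or.inl rfl)⟩
    · exact ⟨projInv_mem, G_eq ▸ Subgroup.subset_closure (Or.inr (Or.inr (Or.inr (Or.inl rfl))))⟩
    · exact ⟨cubeTwist_mem,
        D_eq ▸ Subgroup.subset_closure (Or.inr (Or.inr (Or.inr (Or.inr (Or.inl rfl)))))⟩
  obtain ⟨_, h⟩ := hle (H11.m24Gens_eq ▸ hσ)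
  exact h

theorem mem_closure_sign {c : GolayPt → ZMod 2} (hc : c ∈ golayCode) :
    mk (monoAut 1 (one_mem _) c hc) ∈ Subgroup.closure gensSet := by
  let C : AddSubgroup (GolayPt → ZMod 2) :=
    { carrier := {d | ∃ hd : d ∈ golayCode,
        mk (monoAut 1 (one_mem _) d hd) ∈ Subgroup.closure gensSet}
      zero_mem' := ⟨zero_mem _, mem_closure_perm (one_mem _)⟩
      add_mem' := by
        rintro a b ⟨ha, ha'⟩ ⟨hb, hb'⟩
        refine ⟨add_mem ha hb, ?_⟩
        rw [show monoAut 1 (one_mem _) (a + b) (add_mem ha hb) =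
            monoAut 1 (one_mem _) a ha * monoAut 1 (one_mem _) b hb from by
          rw [monoAut_mul]
          exact monoAut_congr (one_mul _).symm
            (by funext i; simp [Equiv.Perm.one_symm]), map_mul]
        exact mul_mem ha' hb'
      neg_mem' := by
        rintro a ⟨ha, ha'⟩
        rw [show -a = a from funext fun i => ZMod.neg_eq_self_mod_two (a i)]
        exact ⟨ha, ha'⟩ }
  suffices h : c ∈ C by obtain ⟨_, h⟩ := h; exact h
  induction hc using Submodule.span_induction with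
  | mem v hv =>
    rcases hv with ⟨t, rfl⟩ | hv
    · refine ⟨qrWord_mem t, ?_⟩
      have hshift : ∀ i, qrWord t i = qrWord 0 ((shiftP ^ t.val).symm i) := by
        intro i
        obtain ⟨j, rfl⟩ := (shiftP ^ t.val).surjective i
        rw [Equiv.symm_apply_apply]
        cases j with
        | none => rw [shiftP_pow_none]; rfl
        | some a =>
          rw [shiftP_pow]
          have key : ∀ t a : ZMod 23, qrWord t (some (a + t)) = qrWord 0 (some a) := by
            decide +kernel
          simpa using key t a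
      set p := monoAut (shiftP ^ t.val) (pow_mem shiftP_mem _) 0 (zero_mem _)
      have e : monoAut 1 (one_mem _) (qrWord t) (qrWord_mem t) * p =
          p * monoAut 1 (one_mem _) (qrWord 0) (qrWord_mem 0) := by
        rw [monoAut_mul, monoAut_mul]
        exact monoAut_congr (by rw [one_mul, mul_one]) (by funext i; simp [hshift])
      have hp : mk p ∈ Subgroup.closure gensSet := mem_closure_perm _
      rw [← mul_inv_cancel_right (monoAut 1 (one_mem _) (qrWord t) (qrWord_mem t)) p, e, map_mul,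
        map_mul, map_inv, ← S_eq]
      exact mul_mem (mul_mem hp (Subgroup.subset_closure (Or.inr (Or.inr (Or.inl rfl))))) (inv_mem hp)
    · rw [Set.mem_singleton_iff] at hv
      subst hv
      refine ⟨one_mem_golayCode, ?_⟩
      rw [← negOne_eq_mono, mk_negOne]
      exact one_mem _
  | zero => exact zero_mem C
  | add u v _ _ hu hv => exact add_mem hu hv
  | smul z v _ hv =>
    rcases (by decide : ∀ z : ZMod 2, z = 0 ∨ z = 1) z with rfl | rfl
    · rw [zero_smul]; exact zero_mem C
    · rwa [one_smul]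

theorem U_not_mono : H15.matAut matU matU_ok ∉ crossStab := by
  intro h
  have h8 := isLeech_eight oo
  have hy := mem_crossStab_iff.1 h _ (mem_stdCross_iff.2 ⟨oo, Or.inl rfl⟩)
  rw [← cross_eight oo, mem_cross_iff] at hy
  obtain ⟨hyL, -, z, hz, e⟩ := hy
  have hred : red (act (H15.matAut matU matU_ok) (eight oo)) = vecB (2 ^ 23) := by
    rw [← red_eight]
    conv_rhs => rw [show eight oo = act (H15.matAut matU matU_ok) (eight oo) + (z + z) by
      rw [← two_nsmul, ← e]; abel]
    rw [red_add hyL (hz.add hz), red_add hz hz,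
      show red z + red z = 0 from funext fun i => (by decide : ∀ a : ZMod 2, a + a = 0) _, add_zero]
  have h1 := rep_el 5 (by norm_num) _ rfl _ _ h8 red_eight
  rw [hred] at h1
  have h2 : Nat.beq (ap (tbl.getD 5 []) (2 ^ 23) % 2 ^ 24) (2 ^ 23 % 2 ^ 24) = false := by
    decide +kernel
  rw [← mod_eq_of_vecB h1, (Nat.beq_eq ..).mpr rfl] at h2
  exact Bool.noConfusion h2

/-- The six elements generate. -/
theorem closure_gens : Subgroup.closure gensSet = ⊤ := by
  set K := (Subgroup.closure gensSet).comap mk with hK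
  have hle : crossStab ≤ K := by
    intro g hg
    obtain ⟨σ, hσ, c, hc, rfl⟩ := exists_mono hg
    rw [hK, Subgroup.mem_comap, show monoAut σ hσ c hc =
        monoAut 1 (one_mem _) c hc * monoAut σ hσ 0 (zero_mem _) from by
      rw [monoAut_mul]; exact monoAut_congr (one_mul _).symm (by funext i; simp), map_mul]
    exact mul_mem (mem_closure_sign hc) (mem_closure_perm hσ)
  have hU : H15.matAut matU matU_ok ∈ K :=
    Subgroup.subset_closure (Or.inr (Or.inr (Or.inr (Or.inr (Or.inr rfl)))))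
  have htop : K = ⊤ := isCoatom_crossStab.2 _
    (lt_of_le_of_ne hle fun e => U_not_mono (e ▸ hU))
  rw [eq_top_iff]
  intro q _
  obtain ⟨g, rfl⟩ := mk_surjective q
  exact (Subgroup.mem_comap (f := mk)).1 (htop ▸ Subgroup.mem_top g : g ∈ K)

theorem X_ne_one : X ≠ 1 := by
  have h := evW_ne_one_of_check (w := [0]) (by decide) (k := 2) (by
    have e : Nat.beq (apWord [0] 2 % 2 ^ 24) (2 % 2 ^ 24) = false := by decide +kernel
    intro he
    rw [he, (Nat.beq_eq ..).mpr rfl] at e
    exact Bool.noConfusion e)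
  rwa [evW_singleton] at h

theorem card_co1 : Nat.card Spor.Co1 = 4157776806543360000 := card_Co1

/-- Every element of order 23 is conjugate to a power of `X`. -/
theorem exists_conj_X {y : Spor.Co1} (hy : orderOf y = 23) :
    ∃ (g : Spor.Co1) (a : ℕ), a < 23 ∧ g * y * g⁻¹ = X ^ a := by
  haveI : Fact (Nat.Prime 23) := ⟨by norm_num⟩
  haveI : Finite Spor.Co1 := Nat.finite_of_card_ne_zero (by rw [card_co1]; norm_num)
  have hX : orderOf X = 23 := orderOf_eq_prime X_pow_prime X_ne_one
  have hp : ∀ z : Spor.Co1, orderOf z = 23 → IsPGroup 23 (Subgroup.zpowers z) := fun z hz =>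
    IsPGroup.of_card (n := 1) (by rw [Nat.card_zpowers, hz, pow_one])
  obtain ⟨P, hP⟩ := (hp X hX).exists_le_sylow
  obtain ⟨Q, hQ⟩ := (hp y hy).exists_le_sylow
  obtain ⟨k, hk⟩ := P.2.exists_card_eq
  have hk1 : k ≤ 1 := by
    by_contra hgt
    have hd : 23 ^ 2 ∣ Nat.card Spor.Co1 :=
      (pow_dvd_pow 23 (by omega : 2 ≤ k)).trans (hk ▸ Subgroup.card_subgroup_dvd_card _)
    rw [card_co1] at hd
    norm_num at hd
  have hPX : (P : Subgroup Spor.Co1) = Subgroup.zpowers X := by
    refine (Subgroup.eq_of_le_of_card_ge hP ?_).symm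
    rw [Nat.card_zpowers, hX, hk]
    interval_cases k <;> norm_num
  obtain ⟨g, hg⟩ := MulAction.exists_smul_eq Spor.Co1 Q P
  have hmem : g * y * g⁻¹ ∈ Subgroup.zpowers X := by
    rw [← hPX, ← hg]
    exact ⟨y, hQ (Subgroup.mem_zpowers y), rfl⟩
  obtain ⟨n, e⟩ := Subgroup.mem_zpowers_iff.1 hmem
  refine ⟨g, (n % 23).toNat, by omega, ?_⟩
  rw [← e, ← zpow_natCast, Int.toNat_of_nonneg (Int.emod_nonneg _ (by norm_num)),
    ← zpow_mod_orderOf X n, hX]
  rfl

theorem W_pow_X (k : ℕ) : W ^ k * X * (W ^ k)⁻¹ = X ^ 2 ^ k := by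
  induction k with
  | zero => simp
  | succ k ih =>
    have h1 : W * X * W⁻¹ = X ^ 2 := by rw [W_X, mul_inv_cancel_right]
    calc W ^ (k + 1) * X * (W ^ (k + 1))⁻¹ = W * (W ^ k * X * (W ^ k)⁻¹) * W⁻¹ := by
          rw [pow_succ' W k]; group
      _ = (W * X * W⁻¹) ^ 2 ^ k := by rw [ih, conj_pow]
      _ = X ^ 2 ^ (k + 1) := by rw [h1, ← pow_mul, pow_succ']

theorem X_pow_mod (n : ℕ) : X ^ n = X ^ (n % 23) := by
  conv_lhs => rw [← Nat.mod_add_div n 23, pow_add, pow_mul, X_pow_prime, one_pow, mul_one]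

/-- Every automorphism is inner. -/
theorem mem_inn (φ : MulAut Spor.Co1) : φ ∈ Inn Spor.Co1 := by
  have hX : orderOf X = 23 := by
    haveI : Fact (Nat.Prime 23) := ⟨by norm_num⟩
    exact orderOf_eq_prime X_pow_prime X_ne_one
  obtain ⟨g, a, ha, hga⟩ := exists_conj_X (y := φ X) ((MulEquiv.orderOf_eq φ X).trans hX)
  have ha0 : a ≠ 0 := by
    rintro rfl
    rw [pow_zero, mul_inv_eq_one, mul_eq_left, ← map_one φ] at hga
    exact X_ne_one (φ.injective hga)
  -- the exponent becomes `±1`
  obtain ⟨k, -, hk⟩ := (by decide +kernel : ∀ a < 23, a ≠ 0 →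
    ∃ k < 11, a * 2 ^ k % 23 = 1 ∨ a * 2 ^ k % 23 = 22) a ha ha0
  set ψ : MulAut Spor.Co1 := MulAut.conj (W ^ k * g) * φ with hψ
  have hψX : ∃ neg, ψ X = evW (xWord neg) := by
    have e : ψ X = X ^ (a * 2 ^ k) := by
      rw [hψ, MulAut.mul_apply, MulAut.conj_apply, mul_comm a, pow_mul, ← W_pow_X k,
        conj_pow, ← hga]
      group
    rw [e, X_pow_mod]
    rcases hk with h | h <;> rw [h]
    · exact ⟨false, by rw [pow_one]; exact (evW_singleton 0).symm⟩
    · refine ⟨true, ?_⟩
      rw [show evW (xWord true) = X⁻¹ from evW_singleton 6]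
      exact eq_inv_of_mul_eq_one_left (by rw [← pow_succ]; exact X_pow_prime)
  obtain ⟨neg, hψX⟩ := hψX
  -- correct the image of `W`
  have hWc : (W⁻¹ * ψ W) * X = X * (W⁻¹ * ψ W) := by
    have h := congrArg ψ W_X
    rw [map_mul, map_mul, map_pow] at h
    have hW' : W * ψ X = ψ X ^ 2 * W := by
      rw [hψX]
      cases neg
      · rw [show evW (xWord false) = X from evW_singleton 0]; exact W_X
      · rw [show evW (xWord true) = X⁻¹ from evW_singleton 6, inv_pow]
        have := W_X
        calc W * X⁻¹ = (X ^ 2)⁻¹ * (X ^ 2 * W) * X⁻¹ := by group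
          _ = (X ^ 2)⁻¹ * (W * X) * X⁻¹ := by rw [this]
          _ = (X ^ 2)⁻¹ * W := by group
    have hc : (W⁻¹ * ψ W) * ψ X = ψ X * (W⁻¹ * ψ W) := by
      rw [mul_assoc, h, ← mul_assoc, ← mul_assoc, inv_mul_eq_iff_eq_mul.2]
      rw [← mul_assoc, hW', mul_inv_cancel_right]
    rw [hψX] at hc
    cases neg
    · rwa [show evW (xWord false) = X from evW_singleton 0] at hc
    · rw [show evW (xWord true) = X⁻¹ from evW_singleton 6] at hc
      exact (inv_inv X) ▸ (Commute.inv_right hc).eq
  obtain ⟨i, hi⟩ := centralizer_X hWc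
  rw [inv_mul_eq_iff_eq_mul] at hi
  set χ : MulAut Spor.Co1 := MulAut.conj (X ^ (2 * i)) * ψ with hχ
  have hχX : χ X = evW (xWord neg) := by
    rw [hχ, MulAut.mul_apply, MulAut.conj_apply, hψX]
    cases neg
    · rw [show evW (xWord false) = X from evW_singleton 0]; group
    · rw [show evW (xWord true) = X⁻¹ from evW_singleton 6]; group
  have hχW : χ W = W := by
    rw [hχ, MulAut.mul_apply, MulAut.conj_apply, hi, ← mul_assoc, mul_inv_eq_iff_eq_mul]
    have h : ∀ n : ℕ, W * X ^ n = X ^ (2 * n) * W := by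
      intro n
      induction n with
      | zero => simp
      | succ n ih => rw [pow_succ, ← mul_assoc, ih, mul_assoc, W_X, ← mul_assoc, ← pow_add]; ring_nf
    rw [mul_assoc, h i, h (2 * i), ← mul_assoc, ← pow_add]
    congr 2
    omega
  obtain ⟨h1, h2, h3, h4, h5, h6⟩ := fixes_all neg hχX hχW
  have hone : χ = 1 := by
    refine MulEquiv.toMonoidHom_injective (MonoidHom.eq_of_eqOn_dense closure_gens ?_)
    rintro q (rfl | rfl | rfl | rfl | rfl | rfl) <;> assumption
  have hφ : φ = (MulAut.conj (W ^ k * g))⁻¹ * ((MulAut.conj (X ^ (2 * i)))⁻¹ * χ) := by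
    rw [hχ, inv_mul_cancel_left, hψ, inv_mul_cancel_left]
  rw [hφ, hone, mul_one]
  exact mul_mem (inv_mem ⟨_, rfl⟩) (inv_mem ⟨_, rfl⟩)

/-- The outer automorphism group is trivial. -/
theorem card_out_co1 : Nat.card (Out Spor.Co1) = 1 := by
  haveI : Subsingleton (Out Spor.Co1) := by
    refine ⟨fun x y => ?_⟩
    obtain ⟨p, rfl⟩ := QuotientGroup.mk_surjective x
    obtain ⟨q, rfl⟩ := QuotientGroup.mk_surjective y
    exact QuotientGroup.eq.2 (mem_inn _)
  exact Nat.card_unique

end Cfsg.Agent.H56.Co1Aut
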