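import Cfsg.Agent.H56.Co1Aut.Elements
import Cfsg.Agent.H11.Code

/-!
Monomial elements of the first Conway group commuting with the translation or with the doubling of
the projective line.
-/

set_option autoImplicit false
set_option maxRecDepth 100000

namespace Cfsg.Agent.H56.Co1Aut

open Cfsg Cfsg.Agent.H14 Finset

theorem monoAut_congr {σ σ' : Equiv.Perm GolayPt} {hσ : σ ∈ M24} {hσ' : σ' ∈ M24}
    {c c' : GolayPt → ZMod 2} {hc : c ∈ golayCode} {hc' : c' ∈ golayCode}
    (h1 : σ = σ') (h2 : c = c') : monoAut σ hσ c hc = monoAut σ' hσ' c' hc' := by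
  subst h1; subst h2; rfl

theorem monoAut_mul {σ τ : Equiv.Perm GolayPt} (hσ : σ ∈ M24) (hτ : τ ∈ M24)
    {c d : GolayPt → ZMod 2} (hc : c ∈ golayCode) (hd : d ∈ golayCode) :
    monoAut σ hσ c hc * monoAut τ hτ d hd = monoAut (σ * τ) (mul_mem hσ hτ)
      (c + fun i => d (σ.symm i)) (add_mem hc (((mem_M24_iff σ).1 hσ d).1 hd)) := by
  refine act_eq_of_forall fun x hx => ?_
  have hy : IsLeech (signFun d (permFun τ x)) := (hx.permFun hτ).signFun hd
  rw [mul_act, act_monoAut hτ hd hx, act_monoAut hσ hc hy, act_monoAut _ _ hx]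
  funext i
  have hz : ∀ z : ZMod 2, z = 0 ∨ z = 1 := by decide
  rcases hz (c i) with a | a <;> rcases hz (d (σ.symm i)) with b | b <;>
    simp [signFun, permFun, a, b, Equiv.Perm.mul_def] <;> exact fun h => absurd rfl h

theorem negOne_eq_mono : negOne = monoAut 1 (one_mem _) 1 one_mem_golayCode := by
  refine act_eq_of_forall fun x hx => ?_
  rw [act_negOne hx, act_monoAut _ _ hx, signFun_one]
  rfl

theorem mono_pow {σ : Equiv.Perm GolayPt} (hσ : σ ∈ M24) : ∀ n : ℕ,
    monoAut σ hσ 0 (zero_mem _) ^ n = monoAut (σ ^ n) (pow_mem hσ n) 0 (zero_mem _)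
  | 0 => by
    refine act_eq_of_forall fun x hx => ?_
    rw [pow_zero, one_act, act_monoAut _ _ hx]
    funext i; simp [signFun, permFun, Equiv.Perm.one_symm]
  | n + 1 => by
    rw [pow_succ, mono_pow hσ n, monoAut_mul]
    exact monoAut_congr (pow_succ σ n).symm (by funext i; simp)

/-- A monomial element commuting modulo the centre with a permutation having a fixed point. -/
theorem commute_mono {σ π : Equiv.Perm GolayPt} (hσ : σ ∈ M24) (hπ : π ∈ M24) (hfix : π none = none)
    {c : GolayPt → ZMod 2} (hc : c ∈ golayCode)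
    (h : mk (monoAut σ hσ c hc) * mk (monoAut π hπ 0 (zero_mem _)) =
      mk (monoAut π hπ 0 (zero_mem _)) * mk (monoAut σ hσ c hc)) :
    σ * π = π * σ ∧ ∀ i, c (π i) = c i := by
  rw [← map_mul, ← map_mul, mk_eq_mk, monoAut_mul, monoAut_mul] at h
  rcases h with h | h
  · obtain ⟨h1, h2⟩ := monoAut_injective h
    refine ⟨h1.symm, fun i => ?_⟩
    have := congrFun h2 (π i)
    simpa using this.symm
  · rw [negOne_eq_mono, monoAut_mul] at h
    obtain ⟨h1, h2⟩ := monoAut_injective h
    exfalso
    have := congrFun h2 none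
    have hp : π.symm none = none := by rw [Equiv.symm_apply_eq, hfix]
    simp [hp, Equiv.Perm.one_symm] at this

/-! ### The translation -/

theorem shiftP_pow (n : ℕ) (t : ZMod 23) : (shiftP ^ n) (some t) = some (t + n) := by
  induction n with
  | zero => simp
  | succ n ih =>
    rw [pow_succ', Equiv.Perm.mul_apply, ih]
    simp [shiftP, add_assoc]

theorem shiftP_pow_none (n : ℕ) : (shiftP ^ n) none = none := by
  induction n with
  | zero => rfl
  | succ n ih => rw [pow_succ', Equiv.Perm.mul_apply, ih]; rfl

/-- Code words constant on the residues. -/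
theorem code_shift : ∀ a b : ZMod 2, a ≠ b → H11.inCode
    ((if a = 1 then 2 ^ 23 else 0) ^^^ (if b = 1 then 2 ^ 23 - 1 else 0)) = false := by
  decide +kernel

theorem eq_const_of_shift {c : GolayPt → ZMod 2} (hc : c ∈ golayCode)
    (h : ∀ i, c (shiftP i) = c i) : c = 0 ∨ c = 1 := by
  have hconst : ∀ t : ZMod 23, c (some t) = c (some 0) := by
    intro t
    have : ∀ n : ℕ, c (some (n : ZMod 23)) = c (some 0) := by
      intro n
      induction n with
      | zero => simp
      | succ n ih =>
        rw [← ih, ← h (some (n : ZMod 23))]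
        congr 1
        simp [shiftP]
    simpa using this t.val
  by_cases e : c none = c (some 0)
  · have all : ∀ p, c p = c none := fun p => by
      cases p with
      | none => rfl
      | some t => rw [hconst t, e]
    rcases (by decide : ∀ z : ZMod 2, z = 0 ∨ z = 1) (c none) with z | z
    · left; funext p; rw [all, z]; rfl
    · right; funext p; rw [all, z]; rfl
  · exfalso
    let m : ℕ := (if c none = 1 then 2 ^ 23 else 0) ^^^ (if c (some 0) = 1 then 2 ^ 23 - 1 else 0)
    have hw : c = H11.word m := by
      funext p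
      have key : ∀ (a b : ZMod 2) (p : GolayPt), (if p = none then a else b) =
          H11.word ((if a = 1 then 2 ^ 23 else 0) ^^^ (if b = 1 then 2 ^ 23 - 1 else 0)) p := by
        decide +kernel
      rw [← key]
      cases p with
      | none => rw [if_pos rfl]
      | some t => rw [if_neg (Option.some_ne_none t), hconst]
    obtain ⟨m', hm', em⟩ := H11.mem_golayCode_iff.1 hc
    have hm : m = m' := by
      have h24 : m < 2 ^ 24 := by
        refine Nat.xor_lt_two_pow ?_ ?_ <;> split <;> norm_num
      refine Nat.eq_of_testBit_eq fun i => ?_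
      by_cases hi : i < 24
      · obtain ⟨p, rfl⟩ : ∃ p, H12.idx p = i := by
          revert hi
          exact (by decide +kernel : ∀ i < 24, ∃ p, H12.idx p = i) i
        have := congrFun (hw.symm.trans em) p
        simp only [H11.word] at this
        cases ha : m.testBit (H12.idx p) <;> cases hb : m'.testBit (H12.idx p) <;> simp_all
      · rw [Nat.testBit_lt_two_pow (lt_of_lt_of_le h24 (Nat.pow_le_pow_right (by norm_num) (by omega))),
          Nat.testBit_lt_two_pow (lt_of_lt_of_le (H11.codeMasks_lt hm')
            (Nat.pow_le_pow_right (by norm_num) (by omega)))]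
    have := code_shift _ _ e
    rw [show ((if c none = 1 then 2 ^ 23 else 0) ^^^ (if c (some 0) = 1 then 2 ^ 23 - 1 else 0)) = m
      from rfl, hm, H11.inCode_iff.2 hm'] at this
    exact Bool.noConfusion this

/-- Monomial elements commuting with `X` are powers of it. -/
theorem mono_comm_X {g : Co0} (hg : g ∈ crossStab) (h : mk g * X = X * mk g) :
    ∃ i : ℕ, mk g = X ^ i := by
  obtain ⟨σ, hσ, c, hc, rfl⟩ := exists_mono hg
  rw [X_eq] at h ⊢
  obtain ⟨hcom, hcinv⟩ := commute_mono hσ shiftP_mem rfl hc h
  have hc01 := eq_const_of_shift hc hcinv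
  have hfix : ∀ p, shiftP p = p → p = none := by decide +kernel
  have hnone : σ none = none := by
    refine hfix _ ?_
    rw [← Equiv.Perm.mul_apply, ← hcom]; rfl
  cases h0 : σ (some 0) with
  | none => exact absurd (σ.injective (h0.trans hnone.symm)) (Option.some_ne_none _)
  | some a =>
    have hpow : σ = shiftP ^ a.val := by
      refine Equiv.ext fun p => ?_
      cases p with
      | none => rw [hnone, shiftP_pow_none]
      | some t =>
        have : ∀ n : ℕ, σ (some (n : ZMod 23)) = some (a + n) := by
          intro n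
          induction n with
          | zero => simpa using h0
          | succ n ih =>
            have := Equiv.ext_iff.1 hcom (some (n : ZMod 23))
            rw [Equiv.Perm.mul_apply, Equiv.Perm.mul_apply, ih] at this
            simpa [shiftP, add_assoc] using this
        rw [shiftP_pow]
        simpa [add_comm] using this t.val
    refine ⟨a.val, ?_⟩
    rw [← map_pow, mono_pow]
    rcases hc01 with rfl | rfl
    · exact congrArg mk (monoAut_congr hpow rfl)
    · rw [mk_eq_mk]
      right
      rw [negOne_eq_mono, monoAut_mul]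
      exact monoAut_congr (by rw [one_mul, hpow]) (by
        funext i; simp only [Pi.add_apply, Pi.one_apply, Pi.zero_apply]; rfl)

/-! ### The doubling -/

/-- The square classes. -/
def isSq (t : ZMod 23) : Bool := [1, 2, 3, 4, 6, 8, 9, 12, 13, 16, 18].contains t.val

/-- A map commuting with the doubling, from its values at the fixed points and at `1` and `5`. -/
def candFun (sw : Bool) (c d : ZMod 23) : GolayPt → GolayPt
  | none => if sw then some 0 else none
  | some t => if t = 0 then (if sw then none else some 0)
      else if isSq t then some (c * t) else some (d * 14 * t)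

/-- The candidates that are powers of the doubling. -/
def candGood (sw : Bool) (c d : ZMod 23) : Bool :=
  !sw && isSq c && decide (d = 5 * c)

/-- Parity of two translates of the squares under a map of positions. -/
def parityBad (f : GolayPt → GolayPt) (t u : ℕ) : Bool :=
  decide (((List.range 24).map fun i =>
    if (H11.qrMasks.getD t 0).testBit i &&
      (H11.qrMasks.getD u 0).testBit (H12.idx (f (if i = 23 then none else some (i : ZMod 23))))
    then 1 else 0).sum % 2 = 1)

theorem cand_check : ∀ (sw : Bool) (c d : ZMod 23), c ≠ 0 → d ≠ 0 →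
    (candGood sw c d || isSq c == isSq d ||
      ((List.range 23).any fun t => (List.range 23).any fun u =>
        parityBad (candFun sw c d) t u)) = true := by
  decide +kernel

theorem dblP_pow_none (n : ℕ) : (dblP ^ n) none = none := by
  induction n with
  | zero => rfl
  | succ n ih => rw [pow_succ', Equiv.Perm.mul_apply, ih]; rfl

theorem dblP_pow (n : ℕ) (t : ZMod 23) : (dblP ^ n) (some t) = some (2 ^ n * t) := by
  induction n with
  | zero => simp
  | succ n ih =>
    rw [pow_succ', Equiv.Perm.mul_apply, ih]
    simp [dblP, pow_succ', mul_assoc]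

theorem parity_good {σ : Equiv.Perm GolayPt} (hσ : σ ∈ M24) {t u : ℕ} (ht : t < 23) (hu : u < 23) :
    parityBad σ t u = false := by
  have hq : ∀ (n : ℕ), n < 23 → ∀ p, qrWord (n : ZMod 23) p =
      if (H11.qrMasks.getD n 0).testBit (H12.idx p) then 1 else 0 := fun n hn p => by
    rw [H11.qrWord_eq, ZMod.val_natCast_of_lt hn]; rfl
  have h := golay_orth _ _ (((mem_M24_iff σ).1 hσ _).1 (qrWord_mem (t : ZMod 23)))
    (qrWord_mem (u : ZMod 23))
  rw [← Equiv.sum_comp σ] at h
  simp only [Equiv.symm_apply_apply, hq t ht, hq u hu] at h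
  rw [parityBad, decide_eq_false_iff_not]
  intro hbad
  have hsum : (((List.range 24).map fun i => if (H11.qrMasks.getD t 0).testBit i &&
      (H11.qrMasks.getD u 0).testBit (H12.idx (σ (if i = 23 then none else some (i : ZMod 23))))
      then 1 else 0).sum : ℕ) = ∑ p : GolayPt, if (H11.qrMasks.getD t 0).testBit (H12.idx p) &&
      (H11.qrMasks.getD u 0).testBit (H12.idx (σ p)) then 1 else 0 := by
    have e : ∀ p : GolayPt, (if H15.idx p = 23 then none else some ((H15.idx p : ℕ) : ZMod 23)) = p ∧
        H15.idx p = H12.idx p := by decide +kernel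
    rw [← List.sum_toFinset _ (List.nodup_range), List.toFinset_range, ← H15.sum24]
    refine sum_congr rfl fun p _ => ?_
    rw [(e p).1, (e p).2]
  rw [hsum] at hbad
  have h2 : ((∑ p : GolayPt, if (H11.qrMasks.getD t 0).testBit (H12.idx p) &&
      (H11.qrMasks.getD u 0).testBit (H12.idx (σ p)) then 1 else 0 : ℕ) : ZMod 2) = 0 := by
    rw [Nat.cast_sum, ← h]
    refine sum_congr rfl fun p _ => ?_
    cases (H11.qrMasks.getD t 0).testBit (H12.idx p) <;>
      cases (H11.qrMasks.getD u 0).testBit (H12.idx (σ p)) <;> simp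
  rw [ZMod.natCast_eq_zero_iff_even] at h2
  exact absurd hbad (by rw [Nat.even_iff.1 h2]; norm_num)

/-- Permutations in `M24` commuting with the doubling are powers of it. -/
theorem comm_dblP {σ : Equiv.Perm GolayPt} (hσ : σ ∈ M24) (h : σ * dblP = dblP * σ) :
    ∃ n, n < 11 ∧ σ = dblP ^ n := by
  have hcom : ∀ p, σ (dblP p) = dblP (σ p) := fun p => Equiv.ext_iff.1 h p
  have hfix : ∀ p, dblP p = p ↔ p = none ∨ p = some 0 := by decide +kernel
  have hn : σ none = none ∨ σ none = some 0 := (hfix _).1 (by rw [← hcom]; rfl)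
  have h0 : σ (some 0) = none ∨ σ (some 0) = some 0 := (hfix _).1 (by rw [← hcom]; rfl)
  have hne : ∀ t : ZMod 23, t ≠ 0 → ∃ a, a ≠ 0 ∧ σ (some t) = some a := fun t ht => by
    have hmove : ¬(σ (some t) = none ∨ σ (some t) = some 0) := fun e => by
      have := (hfix (some t)).1 (σ.injective (by rw [hcom, (hfix _).2 e]))
      simp [ht] at this
    cases e : σ (some t) with
    | none => exact absurd (Or.inl e) hmove
    | some a => exact ⟨a, fun ha => hmove (Or.inr (by rw [e, ha])), rfl⟩
  obtain ⟨c, hc, hc1⟩ := hne 1 (by decide)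
  obtain ⟨d, hd, hd5⟩ := hne 5 (by decide)
  have horb : ∀ (t a : ZMod 23), σ (some t) = some a → ∀ n : ℕ,
      σ (some (2 ^ n * t)) = some (2 ^ n * a) := by
    intro t a e n
    induction n with
    | zero => simpa using e
    | succ n ih =>
      have := hcom (some (2 ^ n * t))
      rw [ih] at this
      simpa [dblP, pow_succ', mul_assoc] using this
  have hsq : ∀ t : ZMod 23, t ≠ 0 → isSq t = true → ∃ n < 11, (2 : ZMod 23) ^ n = t := by
    decide +kernel
  have hnsq : ∀ t : ZMod 23, t ≠ 0 → isSq t = false →
      ∃ n < 11, (2 : ZMod 23) ^ n * 5 = t := by decide +kernel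
  have hcd : (isSq c == isSq d) = false := by
    rw [beq_eq_false_iff_ne]
    intro e
    have key : ∀ c d : ZMod 23, c ≠ 0 → d ≠ 0 → isSq c = isSq d → ∃ n < 11, 2 ^ n * c = d := by
      decide +kernel
    obtain ⟨n, -, hn'⟩ := key c d hc hd e
    have e1 := horb 1 c hc1 n
    rw [hn', ← hd5, mul_one] at e1
    have := Option.some_injective _ (σ.injective e1)
    have key' : ∀ n : ℕ, (2 : ZMod 23) ^ n ≠ 5 := fun n => by
      have h11 : (2 : ZMod 23) ^ 11 = 1 := by decide
      rw [← Nat.div_add_mod n 11, pow_add, pow_mul, h11, one_pow, one_mul]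
      revert n
      intro n
      exact (by decide +kernel : ∀ m < 11, (2 : ZMod 23) ^ m ≠ 5) _ (Nat.mod_lt _ (by norm_num))
    exact key' n this
  set sw : Bool := decide (σ none = some 0) with hsw
  have hf : ∀ p, σ p = candFun sw c d p := by
    intro p
    cases p with
    | none =>
      rcases hn with e | e <;> simp [candFun, hsw, e]
    | some t =>
      by_cases ht : t = 0
      · subst ht
        have hne0 : σ (some 0) ≠ σ none := fun e => Option.some_ne_none _ (σ.injective e)
        rcases hn with e | e <;> rcases h0 with e' | e' <;> rw [e, e'] at hne0 <;>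
          simp [candFun, hsw, e, e'] at hne0 ⊢
      · simp only [candFun, ht, if_false]
        cases hs : isSq t
        · obtain ⟨n, -, rfl⟩ := hnsq t ht hs
          rw [horb 5 d hd5 n]
          simp only [Bool.false_eq_true, if_false]
          congr 1
          have h23 : (23 : ZMod 23) = 0 := by decide
          linear_combination (-3 * (2 : ZMod 23) ^ n * d) * h23
        · obtain ⟨n, -, rfl⟩ := hsq t ht hs
          have := horb 1 c hc1 n
          rw [mul_one] at this
          rw [this]
          simp [mul_comm]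
  have hgood : candGood sw c d = true := by
    have := cand_check sw c d hc hd
    simp only [Bool.or_eq_true, hcd, Bool.false_eq_true, or_false] at this
    rcases this with e | e
    · exact e
    · exfalso
      rw [List.any_eq_true] at e
      obtain ⟨t, ht, e⟩ := e
      rw [List.any_eq_true] at e
      obtain ⟨u, hu, e⟩ := e
      have hp := parity_good hσ (List.mem_range.1 ht) (List.mem_range.1 hu)
      rw [show (σ : GolayPt → GolayPt) = candFun sw c d from funext hf, e] at hp
      exact Bool.noConfusion hp
  simp only [candGood, Bool.and_eq_true, Bool.not_eq_true', decide_eq_true_eq] at hgood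
  obtain ⟨⟨hsf, hcs⟩, rfl⟩ := hgood
  obtain ⟨n, hn11, rfl⟩ := hsq c hc hcs
  refine ⟨n, hn11, Equiv.ext fun p => ?_⟩
  rw [hf, hsf]
  cases p with
  | none => rw [dblP_pow_none]; rfl
  | some t =>
    rw [dblP_pow]
    simp only [candFun, Bool.false_eq_true, if_false]
    by_cases ht : t = 0
    · subst ht; simp
    · rw [if_neg ht]
      split
      · rfl
      · congr 1
        have h23 : (23 : ZMod 23) = 0 := by decide
        linear_combination (3 * (2 : ZMod 23) ^ n * t) * h23

/-- Code words invariant under the doubling. -/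
theorem eq_cases_of_dbl {c : GolayPt → ZMod 2} (hc : c ∈ golayCode)
    (h : ∀ i, c (dblP i) = c i) : c = 0 ∨ c = 1 ∨ c = qrWord 0 ∨ c = 1 + qrWord 0 := by
  let mask (a b q r : ZMod 2) : ℕ := (if a = 1 then 2 ^ 23 else 0) ^^^ (if b = 1 then 1 else 0) ^^^
    (if q = 1 then 340831 - 1 else 0) ^^^ (if r = 1 then 2 ^ 23 - 1 - 340831 else 0)
  have key : ∀ (a b q r : ZMod 2),
      (mask a b q r < 2 ^ 24) ∧ (H11.inCode (mask a b q r) = true →
        (H11.word (mask a b q r) = 0 ∨ H11.word (mask a b q r) = 1 ∨
          H11.word (mask a b q r) = qrWord 0 ∨ H11.word (mask a b q r) = 1 + qrWord 0)) := by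
    decide +kernel
  have horb : ∀ (t : ZMod 23) (n : ℕ), c (some (2 ^ n * t)) = c (some t) := by
    intro t n
    induction n with
    | zero => simp
    | succ n ih =>
      rw [← ih, ← h (some (2 ^ n * t))]
      simp [dblP, pow_succ', mul_assoc]
  have hw : c = H11.word (mask (c none) (c (some 0)) (c (some 1)) (c (some 5))) := by
    have k2 : ∀ (a b q r : ZMod 2) (p : GolayPt), H11.word (mask a b q r) p =
        if p = none then a else if p = some 0 then b else
          if (∃ n < 11, p = some ((2 : ZMod 23) ^ n * 1)) then q else r := by decide +kernel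
    funext p
    rw [k2]
    cases p with
    | none => rw [if_pos rfl]
    | some t =>
      rw [if_neg (Option.some_ne_none t)]
      by_cases ht : t = 0
      · subst ht; rw [if_pos rfl]
      · rw [if_neg (fun e => ht (Option.some_injective _ e))]
        split
        · next e =>
          obtain ⟨n, -, e⟩ := e
          rw [e, horb]
        · next e =>
          have k3 : ∀ t : ZMod 23, t ≠ 0 → (¬∃ n < 11, some t = some ((2 : ZMod 23) ^ n * 1)) →
              ∃ n < 11, (2 : ZMod 23) ^ n * 5 = t := by decide +kernel
          obtain ⟨n, -, rfl⟩ := k3 t ht e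
          rw [horb]
  obtain ⟨m', hm', em⟩ := H11.mem_golayCode_iff.1 hc
  have hm : mask (c none) (c (some 0)) (c (some 1)) (c (some 5)) = m' := by
    have h24 := (key (c none) (c (some 0)) (c (some 1)) (c (some 5))).1
    refine Nat.eq_of_testBit_eq fun i => ?_
    by_cases hi : i < 24
    · obtain ⟨p, rfl⟩ : ∃ p, H12.idx p = i := by
        revert hi
        exact (by decide +kernel : ∀ i < 24, ∃ p, H12.idx p = i) i
      have := congrFun (hw.symm.trans em) p
      simp only [H11.word] at this
      generalize (mask (c none) (c (some 0)) (c (some 1)) (c (some 5))).testBit (H12.idx p) = a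
        at this ⊢
      generalize m'.testBit (H12.idx p) = b at this ⊢
      revert this
      cases a <;> cases b <;> decide
    · rw [Nat.testBit_lt_two_pow (lt_of_lt_of_le h24 (Nat.pow_le_pow_right (by norm_num) (by omega))),
        Nat.testBit_lt_two_pow (lt_of_lt_of_le (H11.codeMasks_lt hm')
          (Nat.pow_le_pow_right (by norm_num) (by omega)))]
  rw [hw]
  exact (key _ _ _ _).2 (hm ▸ H11.inCode_iff.2 hm')

/-- Monomial elements commuting with `W` lie in the group generated by `W` and `S`. -/
theorem mono_comm_W {g : Co0} (hg : g ∈ crossStab) (h : mk g * W = W * mk g) :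
    ∃ j i : ℕ, j < 2 ∧ i < 11 ∧ mk g = S ^ j * W ^ i := by
  obtain ⟨σ, hσ, c, hc, rfl⟩ := exists_mono hg
  rw [W_eq] at h ⊢
  obtain ⟨hcom, hcinv⟩ := commute_mono hσ dblP_mem rfl hc h
  obtain ⟨n, hn, hpow⟩ := comm_dblP hσ hcom
  rw [S_eq]
  have hadd : ∀ a : ZMod 2, 1 + a = 1 + a + 0 := fun a => (add_zero _).symm
  rcases eq_cases_of_dbl hc hcinv with e | e | e | e
  · refine ⟨0, n, two_pos, hn, ?_⟩
    rw [pow_zero, one_mul, ← map_pow, mono_pow]
    exact congrArg mk (monoAut_congr hpow e)
  · refine ⟨0, n, two_pos, hn, ?_⟩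
    rw [pow_zero, one_mul, ← map_pow, mono_pow]
    refine mk_eq_mk.2 (Or.inr ?_)
    rw [negOne_eq_mono, monoAut_mul]
    refine monoAut_congr (by rw [one_mul, hpow]) ?_
    rw [e]
    funext i
    simp only [Pi.add_apply, Pi.one_apply, Pi.zero_apply, Equiv.Perm.one_symm, Equiv.refl_apply]
    decide
  · refine ⟨1, n, one_lt_two, hn, ?_⟩
    rw [pow_one, ← map_pow, mono_pow, ← map_mul, monoAut_mul]
    exact congrArg mk (monoAut_congr (by rw [one_mul, hpow]) (by rw [e]; funext i; simp))
  · refine ⟨1, n, one_lt_two, hn, ?_⟩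
    rw [pow_one, ← map_pow, mono_pow, ← map_mul, monoAut_mul]
    refine mk_eq_mk.2 (Or.inr ?_)
    rw [negOne_eq_mono, monoAut_mul]
    refine monoAut_congr (by rw [one_mul, one_mul, hpow]) ?_
    rw [e]
    funext i
    simp only [Pi.add_apply, Pi.one_apply, Pi.zero_apply, Equiv.Perm.one_symm, Equiv.refl_apply,
      Equiv.Perm.one_apply, add_zero]
    rw [← add_assoc, show (1 : ZMod 2) + 1 = 0 from rfl, zero_add]

end Cfsg.Agent.H56.Co1Aut
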